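import Groth.Agent.AlgSpEt.GorMor
import Groth.Agent.Calg4.RegularAscent
import Groth.Agent.CMMor.FibreCM
import Groth.Prelude.Def_MoreMor

/-!
# Cohen–Macaulay fibre rings and etale morphisms
-/

set_option autoImplicit false
set_option backward.isDefEq.respectTransparency false
set_option backward.isDefEq.respectTransparency.types false

universe u

open CategoryTheory CategoryTheory.Limits AlgebraicGeometry IsLocalRing AlgSp Groth.AlgSpBasic

namespace Groth.CurvStOpen

/-- The Cohen–Macaulay property is invariant under strict henselization. -/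
theorem isCM_iff_strictHenselization (C D : Type u) [CommRing C] [IsLocalRing C] [CommRing D]
    [IsLocalRing D] [Algebra C D] [IsLocalHom (algebraMap C D)] [Hensel.IsStrictHenselization C D] :
    LocCoh.IsCohenMacaulayLocalRing C ↔ LocCoh.IsCohenMacaulayLocalRing D := by
  obtain ⟨M⟩ := Groth.Hensel1.hensModel_of_isStrictHenselization (R := C) (S := D)
  have := M.flat
  have key : ∀ [IsNoetherianRing C] [IsNoetherianRing D],
      LocCoh.IsCohenMacaulayLocalRing C ↔ LocCoh.IsCohenMacaulayLocalRing D := by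
    intro _ _
    refine ⟨fun h => Groth.Calg4.isCohenMacaulayLocalRing_of_flat C D h ?_,
      fun h => Groth.Calg4.isCohenMacaulayLocalRing_of_flat_descend C D h ?_⟩
    · rw [M.map_maximalIdeal]
      let _ : Field (D ⧸ maximalIdeal D) := Ideal.Quotient.field _
      exact Groth.Calg4.isCohenMacaulayLocalRing_of_isRegularLocalRing _
    · rw [M.map_maximalIdeal]
      exact Ideal.le_radical
  refine ⟨fun h => ?_, fun h => ?_⟩
  · have hn : IsNoetherianRing C := h.1
    have := M.isNoetherianRing_iff.1 hn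
    exact key.1 h
  · have hn : IsNoetherianRing D := h.1
    have := M.isNoetherianRing_iff.2 hn
    exact key.2 h

/-- The Cohen–Macaulay property of `A / J` is read on a strict henselization of `A`. -/
theorem isCM_quotient_iff {A R : Type u} [CommRing A] [IsLocalRing A] [CommRing R] [IsLocalRing R]
    [Algebra A R] [IsLocalHom (algebraMap A R)] [Hensel.IsStrictHenselization A R] (J : Ideal A)
    (hJ : J ≤ maximalIdeal A) :
    LocCoh.IsCohenMacaulayLocalRing (A ⧸ J) ↔
      LocCoh.IsCohenMacaulayLocalRing (R ⧸ J.map (algebraMap A R)) := by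
  have hJR : J.map (algebraMap A R) ≠ ⊤ := fun h => (maximalIdeal.isMaximal R).ne_top
    (top_le_iff.mp (h ▸ (Ideal.map_mono hJ).trans (((local_hom_TFAE (algebraMap A R)).out 0 2).mp ‹_›)))
  have : Nontrivial (A ⧸ J) := Ideal.Quotient.nontrivial_iff.mpr
    (ne_top_of_le_ne_top (maximalIdeal.isMaximal A).ne_top hJ)
  have : Nontrivial (R ⧸ J.map (algebraMap A R)) := Ideal.Quotient.nontrivial_iff.mpr hJR
  have : IsLocalRing (A ⧸ J) := .of_surjective' _ Ideal.Quotient.mk_surjective
  have : IsLocalRing (R ⧸ J.map (algebraMap A R)) := .of_surjective' _ Ideal.Quotient.mk_surjective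
  have : IsLocalHom (algebraMap (A ⧸ J) (R ⧸ J.map (algebraMap A R))) := by
    refine ((local_hom_TFAE _).out 0 2).mpr ?_
    rw [← IsLocalRing.map_maximalIdeal_of_surjective (Ideal.Quotient.mk J) Ideal.Quotient.mk_surjective,
      Ideal.map_map]
    refine le_trans (le_of_eq ?_) ((Ideal.map_mono (f := Ideal.Quotient.mk (J.map (algebraMap A R)))
      (((local_hom_TFAE (algebraMap A R)).out 0 2).mp ‹_›)).trans
      (IsLocalRing.map_maximalIdeal_of_surjective _ Ideal.Quotient.mk_surjective).le)
    rw [Ideal.map_map]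
    rfl
  have := Groth.AlgSpEt.GorRing.isStrictHenselization_quotient (R := R) J
  exact isCM_iff_strictHenselization _ _

theorem isCM_iff_of_ringEquiv {C D : Type u} [CommRing C] [CommRing D] (e : C ≃+* D) :
    LocCoh.IsCohenMacaulayLocalRing C ↔ LocCoh.IsCohenMacaulayLocalRing D :=
  ⟨Groth.Ega4b.isCohenMacaulayLocalRing_of_ringEquiv e, Groth.Ega4b.isCohenMacaulayLocalRing_of_ringEquiv e.symm⟩

/-- The fibre of the local rings of a pointed morphism is Cohen–Macaulay. -/
abbrev CMFibre (U V : Scheme.{u}) (h : U ⟶ V) (u : ↥U) : Prop :=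
  LocCoh.IsCohenMacaulayLocalRing
    (U.presheaf.stalk u ⧸ (maximalIdeal (V.presheaf.stalk (h u))).map (h.stalkMap u).hom)

theorem isCMAt_iff_cmFibre {U V : Scheme.{u}} (h : U ⟶ V) (u : ↥U) :
    MoreMor.IsCMAt h u ↔ (h.stalkMap u).hom.Flat ∧ CMFibre U V h u := by
  obtain ⟨e⟩ := Groth.Flatmor4.exists_fiberStalkEquiv h u
  exact and_congr_right fun _ => (isCM_iff_of_ringEquiv e).symm

theorem etMor_cmFibre : Groth.AlgSp3.EtMorInvariant.{u} fun U V h u => CMFibre U V h u where
  precomp {U' U V} e _ h u := by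
    let _ := (e.stalkMap u).hom.toAlgebra
    have : IsLocalHom (algebraMap (U.presheaf.stalk (e u)) (U'.presheaf.stalk u)) :=
      inferInstanceAs (IsLocalHom (e.stalkMap u).hom)
    obtain ⟨T, _, _, _, _, hT⟩ := Groth.Hensel1.exists_isStrictHenselization (U'.presheaf.stalk u)
    let _ : Algebra (U.presheaf.stalk (e u)) T :=
      ((algebraMap (U'.presheaf.stalk u) T).comp (e.stalkMap u).hom).toAlgebra
    have : IsScalarTower (U.presheaf.stalk (e u)) (U'.presheaf.stalk u) T := .of_algebraMap_eq fun _ => rfl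
    have : IsLocalHom (algebraMap (U.presheaf.stalk (e u)) T) :=
      inferInstanceAs (IsLocalHom ((algebraMap (U'.presheaf.stalk u) T).comp (e.stalkMap u).hom))
    have := Groth.Hensel1.isStrictHenselization_of_essentiallyEtale
      (Groth.Hensel1.isEssentiallyEtale_stalkMap_of_etale e u) T
    have hJ : ((e ≫ h).stalkMap u).hom = (e.stalkMap u).hom.comp (h.stalkMap (e u)).hom := by
      rw [Scheme.Hom.stalkMap_comp]; rfl
    refine propext ?_
    show LocCoh.IsCohenMacaulayLocalRing (U'.presheaf.stalk u ⧸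
      (maximalIdeal (V.presheaf.stalk (h (e u)))).map ((e ≫ h).stalkMap u).hom) ↔ _
    refine (isCM_quotient_iff (R := T) _ (Groth.AlgSpEt.map_maximalIdeal_le (e ≫ h) u)).trans
      (Iff.trans ?_ (isCM_quotient_iff (R := T) _ (Groth.AlgSpEt.map_maximalIdeal_le h (e u))).symm)
    refine isCM_iff_of_ringEquiv (Ideal.quotEquivOfEq ?_)
    rw [hJ, ← Ideal.map_map, Ideal.map_map]
    rfl
  postcomp {U V V'} h e _ u := by
    let _ := (e.stalkMap (h u)).hom.toAlgebra
    have hm : (maximalIdeal (V'.presheaf.stalk (e (h u)))).map (e.stalkMap (h u)).hom =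
        maximalIdeal (V.presheaf.stalk (h u)) :=
      Groth.Hensel1.map_maximalIdeal_of_essentiallyEtale
        (Groth.Hensel1.isEssentiallyEtale_stalkMap_of_etale e (h u))
    refine propext (isCM_iff_of_ringEquiv (Ideal.quotEquivOfEq ?_))
    show (maximalIdeal (V'.presheaf.stalk (e (h u)))).map ((h ≫ e).stalkMap u).hom = _
    rw [Scheme.Hom.stalkMap_comp, ← hm, Ideal.map_map]
    rfl

theorem etMor_isCMAt : Groth.AlgSp3.EtMorInvariant.{u} fun _ _ h u => MoreMor.IsCMAt h u where
  precomp e _ h u := by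
    rw [isCMAt_iff_cmFibre, isCMAt_iff_cmFibre]
    exact congrArg₂ And (Groth.AlgSp2.FlatFib.etMor_flat.precomp e h u) (etMor_cmFibre.precomp e h u)
  postcomp h e _ u := by
    rw [isCMAt_iff_cmFibre, isCMAt_iff_cmFibre]
    exact congrArg₂ And (Groth.AlgSp2.FlatFib.etMor_flat.postcomp h e u) (etMor_cmFibre.postcomp h e u)

theorem etMor_isGorensteinAt : Groth.AlgSp3.EtMorInvariant.{u} fun _ _ h u => Dual3.IsGorensteinAt h u where
  precomp e _ h u := by
    rw [Groth.AlgSpEt.isGorensteinAt_iff, Groth.AlgSpEt.isGorensteinAt_iff]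
    exact congrArg₂ And (Groth.AlgSp2.FlatFib.etMor_flat.precomp e h u)
      (Groth.AlgSpEt.etMor_gorFibre.precomp e h u)
  postcomp h e _ u := by
    rw [Groth.AlgSpEt.isGorensteinAt_iff, Groth.AlgSpEt.isGorensteinAt_iff]
    exact congrArg₂ And (Groth.AlgSp2.FlatFib.etMor_flat.postcomp h e u)
      (Groth.AlgSpEt.etMor_gorFibre.postcomp h e u)

end Groth.CurvStOpen
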