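import Groth.Agent.CurvStOpen.OpenCrit
import Groth.Agent.AlgSp3.HasAtMor
import Groth.Agent.AlgSpBasic.Sep
import Groth.Prelude.Def_StCurv2

/-!
# Loci in the base of a family defined by conditions on geometric fibres

`geomFib_iff_range`: for a class of pointed curves over algebraically closed fields which does not change under
extensions of the field, a base change of a family satisfies the condition on geometric fibres iff it maps into
the set of points of the base over which the family satisfies it.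
-/

set_option autoImplicit false
set_option backward.isDefEq.respectTransparency false
set_option backward.isDefEq.respectTransparency.types false

universe u

open CategoryTheory CategoryTheory.Limits AlgebraicGeometry AlgSp Groth.AlgSpBasic

noncomputable section

namespace Groth.CurvStOpen

variable {S : Scheme.{u}} {n : ℕ}

/-- A class of pointed schemes over algebraically closed fields. -/
abbrev FibClass (n : ℕ) : Type (u + 1) :=
  ∀ (Ω : Type u) [Field Ω] [IsAlgClosed Ω] (X' : Scheme.{u}),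
    (X' ⟶ Spec (CommRingCat.of Ω)) → (Fin n → ↥X') → Prop

/-- The class does not change under extensions of algebraically closed fields. -/
def ExtInvariant (P : FibClass.{u} n) : Prop :=
  ∀ (Ω Ω' : Type u) [Field Ω] [IsAlgClosed Ω] [Field Ω'] [IsAlgClosed Ω']
    (ι : Spec (CommRingCat.of Ω') ⟶ Spec (CommRingCat.of Ω))
    (X : Scheme.{u}) (q : X ⟶ Spec (CommRingCat.of Ω)) (σ : Fin n → (Spec (CommRingCat.of Ω) ⟶ X))
    (X' : Scheme.{u}) (q' : X' ⟶ Spec (CommRingCat.of Ω')) (j : X' ⟶ X)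
    (σ' : Fin n → (Spec (CommRingCat.of Ω') ⟶ X')),
    (∀ i, σ i ≫ q = 𝟙 _) → IsPullback j q' q ι → (∀ i, σ' i ≫ q' = 𝟙 _) → (∀ i, σ' i ≫ j = ι ≫ σ i) →
    (P Ω X q (fun i => (σ i).base (IsLocalRing.closedPoint Ω)) ↔
      P Ω' X' q' (fun i => (σ' i).base (IsLocalRing.closedPoint Ω')))

/-- All geometric fibres over a point of the base satisfy the condition. -/
def goodSet (P : FibClass.{u} n) (A : CurvSt.SpFamObj S n) : Set ↥A.base.left :=
  {t | ∀ (Ω : Type u) [Field Ω] [IsAlgClosed Ω]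
    (t' : Spec (CommRingCat.of Ω) ⟶ A.base.left), t'.base (IsLocalRing.closedPoint Ω) = t →
    ∀ (X' : Scheme.{u}) (q : X' ⟶ Spec (CommRingCat.of Ω))
      (i : (yon S).obj (A.ptOver (q ≫ t')) ⟶ A.X)
      (hP : IsPullback i ((yon S).map (A.fibHom t' q)) A.f ((yon S).map (A.ptHom t'))),
      P Ω X' q (A.spMarkedPt hP)}

theorem geomFib_iff_goodSet (P : FibClass.{u} n) (A : CurvSt.SpFamObj S n) :
    CurvSt.GeomFib P A ↔ goodSet P A = Set.univ :=
  ⟨fun H => Set.eq_univ_of_forall fun _ Ω _ _ t' _ X' q i hP => H Ω t' X' q i hP,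
    fun H Ω _ _ t' X' q i hP => (Set.eq_univ_iff_forall.1 H _) Ω t' rfl X' q i hP⟩

/-- The section of a fibre inducing a marked point. -/
theorem exists_sectHom (A : CurvSt.SpFamObj S n) {Ω : Type u} [Field Ω] {t : Spec (CommRingCat.of Ω) ⟶ A.base.left}
    {X' : Scheme.{u}} {q : X' ⟶ Spec (CommRingCat.of Ω)} {i : (yon S).obj (A.ptOver (q ≫ t)) ⟶ A.X}
    (hP : IsPullback i ((yon S).map (A.fibHom t q)) A.f ((yon S).map (A.ptHom t))) (j : Fin n) :
    ∃ σ : A.ptOver t ⟶ A.ptOver (q ≫ t), σ ≫ A.fibHom t q = 𝟙 _ ∧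
      (yon S).map σ ≫ i = (yon S).map (A.ptHom t) ≫ A.sect j ∧
      A.spMarkedPt hP j = σ.left.base (IsLocalRing.closedPoint Ω) := by
  have hw : ((yon S).map (A.ptHom t) ≫ A.sect j) ≫ A.f = 𝟙 _ ≫ (yon S).map (A.ptHom t) := by
    rw [Category.assoc, A.sect_f, Category.comp_id, Category.id_comp]
  refine ⟨(yon S).preimage (hP.lift _ _ hw), (yon S).map_injective ?_, ?_, rfl⟩
  · rw [Functor.map_comp, Functor.map_preimage, hP.lift_snd, CategoryTheory.Functor.map_id]
  · rw [Functor.map_preimage, hP.lift_fst]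

/-- A section with the two properties gives the marked point. -/
theorem spMarkedPt_eq (A : CurvSt.SpFamObj S n) {Ω : Type u} [Field Ω] {t : Spec (CommRingCat.of Ω) ⟶ A.base.left}
    {X' : Scheme.{u}} {q : X' ⟶ Spec (CommRingCat.of Ω)} {i : (yon S).obj (A.ptOver (q ≫ t)) ⟶ A.X}
    (hP : IsPullback i ((yon S).map (A.fibHom t q)) A.f ((yon S).map (A.ptHom t))) {j : Fin n}
    {σ : A.ptOver t ⟶ A.ptOver (q ≫ t)} (h₁ : σ ≫ A.fibHom t q = 𝟙 _)
    (h₂ : (yon S).map σ ≫ i = (yon S).map (A.ptHom t) ≫ A.sect j) :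
    A.spMarkedPt hP j = σ.left.base (IsLocalRing.closedPoint Ω) := by
  obtain ⟨τ, h₁', h₂', h⟩ := exists_sectHom A hP j
  have : τ = σ := (yon S).map_injective (hP.hom_ext (h₂'.trans h₂.symm)
    (by rw [← Functor.map_comp, ← Functor.map_comp, h₁', h₁]))
  rw [h, this]

section Morphism

variable {A B : CurvSt.SpFamObj S n} (φ : B ⟶ A) {Ω : Type u} [Field Ω]
  (t : Spec (CommRingCat.of Ω) ⟶ B.base.left) {X' : Scheme.{u}} (q : X' ⟶ Spec (CommRingCat.of Ω))

/-- The identification of a point of the base of `B` with its image. -/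
def ptIso {T' : Scheme.{u}} (s : T' ⟶ B.base.left) : A.ptOver (s ≫ φ.base.left) ≅ B.ptOver s :=
  Over.isoMk (Iso.refl _) (by
    show 𝟙 _ ≫ s ≫ B.base.hom = (s ≫ φ.base.left) ≫ A.base.hom
    rw [Category.id_comp, Category.assoc, Over.w φ.base])

/-- The identification of the fibre vertices. -/
def vertIso : A.ptOver (q ≫ t ≫ φ.base.left) ≅ B.ptOver (q ≫ t) :=
  Over.isoMk (Iso.refl _) (by
    show 𝟙 _ ≫ (q ≫ t) ≫ B.base.hom = (q ≫ t ≫ φ.base.left) ≫ A.base.hom
    rw [Category.id_comp, Category.assoc, Category.assoc, Category.assoc, Over.w φ.base])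

/-- Squares of sheaves for `B` are squares for `A`. -/
theorem isPullback_comp {i : (yon S).obj (B.ptOver (q ≫ t)) ⟶ B.X}
    (hP : IsPullback i ((yon S).map (B.fibHom t q)) B.f ((yon S).map (B.ptHom t))) :
    IsPullback ((yon S).map (vertIso φ t q).hom ≫ i ≫ φ.top)
      ((yon S).map (A.fibHom (t ≫ φ.base.left) q)) A.f ((yon S).map (A.ptHom (t ≫ φ.base.left))) := by
  refine (hP.paste_horiz φ.cart).of_iso ((yon S).mapIso (vertIso φ t q).symm) (Iso.refl _)
    ((yon S).mapIso (ptIso φ t).symm) (Iso.refl _) ?_ ?_ ?_ ?_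
  · simp only [Iso.refl_hom, Functor.mapIso_hom, Iso.symm_hom]
    rw [← Functor.map_comp_assoc, Iso.inv_hom_id, CategoryTheory.Functor.map_id, Category.id_comp,
      Category.comp_id]
  · simp only [Functor.mapIso_hom, Iso.symm_hom, ← Functor.map_comp]
    exact congrArg _ (Over.OverMorphism.ext (by simp [vertIso, ptIso]))
  · simp
  · simp only [Functor.mapIso_hom, Iso.symm_hom, Iso.refl_hom, Category.comp_id, ← Functor.map_comp]
    exact congrArg _ (Over.OverMorphism.ext (by simp [ptIso]))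

theorem spMarkedPt_comp {i : (yon S).obj (B.ptOver (q ≫ t)) ⟶ B.X}
    (hP : IsPullback i ((yon S).map (B.fibHom t q)) B.f ((yon S).map (B.ptHom t))) :
    A.spMarkedPt (isPullback_comp φ t q hP) = B.spMarkedPt hP := by
  funext j
  obtain ⟨σ, h₁, h₂, h⟩ := exists_sectHom B hP j
  rw [h, spMarkedPt_eq A (isPullback_comp φ t q hP)
    (σ := (ptIso φ t).hom ≫ σ ≫ (vertIso φ t q).inv) (j := j) ?_ ?_]
  · simp [ptIso, vertIso]
  · refine Over.OverMorphism.ext ?_
    have := congrArg CommaMorphism.left h₁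
    simpa [ptIso, vertIso] using this
  · have e : (ptIso φ t).hom ≫ B.ptHom t ≫ φ.base = A.ptHom (t ≫ φ.base.left) :=
      Over.OverMorphism.ext (by simp [ptIso])
    rw [← e]
    simp only [Functor.map_comp, Category.assoc]
    simp [reassoc_of% h₂, φ.w_sect j]

/-- Squares of sheaves for `A` over points of the base of `B` are squares for `B`. -/
theorem exists_square_lift {i : (yon S).obj (A.ptOver (q ≫ t ≫ φ.base.left)) ⟶ A.X}
    (hP : IsPullback i ((yon S).map (A.fibHom (t ≫ φ.base.left) q)) A.f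
      ((yon S).map (A.ptHom (t ≫ φ.base.left)))) :
    ∃ (iB : (yon S).obj (B.ptOver (q ≫ t)) ⟶ B.X)
      (hB : IsPullback iB ((yon S).map (B.fibHom t q)) B.f ((yon S).map (B.ptHom t))),
      B.spMarkedPt hB = A.spMarkedPt hP := by
  have e : (ptIso φ t).inv ≫ A.ptHom (t ≫ φ.base.left) = B.ptHom t ≫ φ.base :=
    Over.OverMorphism.ext (by simp [ptIso])
  have e' : (vertIso φ t q).inv ≫ A.fibHom (t ≫ φ.base.left) q = B.fibHom t q ≫ (ptIso φ t).inv :=
    Over.OverMorphism.ext (by simp [ptIso, vertIso])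
  have hw : ((yon S).map (vertIso φ t q).inv ≫ i) ≫ A.f =
      ((yon S).map (B.fibHom t q) ≫ (yon S).map (B.ptHom t)) ≫ (yon S).map φ.base := by
    rw [Category.assoc, hP.w, ← Functor.map_comp_assoc, e', Functor.map_comp, Category.assoc, Category.assoc,
      ← Functor.map_comp, ← Functor.map_comp, ← Functor.map_comp, e, Functor.map_comp]
  let iB := φ.cart.lift _ _ hw
  have hB : IsPullback iB ((yon S).map (B.fibHom t q)) B.f ((yon S).map (B.ptHom t)) := by
    refine IsPullback.of_right ?_ (φ.cart.lift_snd _ _ _) φ.cart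
    refine hP.of_iso ((yon S).mapIso (vertIso φ t q)) (Iso.refl _) ((yon S).mapIso (ptIso φ t)) (Iso.refl _)
      ?_ ?_ ?_ ?_
    · simp only [iB, φ.cart.lift_fst, Functor.mapIso_hom, Iso.refl_hom, Category.comp_id]
      rw [← Functor.map_comp_assoc, Iso.hom_inv_id, CategoryTheory.Functor.map_id, Category.id_comp]
    · simp only [Functor.mapIso_hom, ← Functor.map_comp]
      exact congrArg _ (Over.OverMorphism.ext (by simp [vertIso, ptIso]))
    · simp
    · simp only [Functor.mapIso_hom, Iso.refl_hom, Category.comp_id, ← Functor.map_comp]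
      exact congrArg _ (Over.OverMorphism.ext (by simp [ptIso]))
  refine ⟨iB, hB, ?_⟩
  rw [← spMarkedPt_comp φ t q hB]
  congr 1
  simp only [iB, φ.cart.lift_fst]
  rw [← Functor.map_comp_assoc, Iso.hom_inv_id, CategoryTheory.Functor.map_id, Category.id_comp]

end Morphism

/-- Base change of a square along an extension of fields. -/
theorem exists_square_ext (A : CurvSt.SpFamObj S n) {Ω Ω' : Type u} [Field Ω] [Field Ω']
    (ι : Spec (CommRingCat.of Ω') ⟶ Spec (CommRingCat.of Ω)) {t : Spec (CommRingCat.of Ω) ⟶ A.base.left}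
    {X' : Scheme.{u}} {q : X' ⟶ Spec (CommRingCat.of Ω)} {i : (yon S).obj (A.ptOver (q ≫ t)) ⟶ A.X}
    (hP : IsPullback i ((yon S).map (A.fibHom t q)) A.f ((yon S).map (A.ptHom t))) :
    ∃ (X₁ : Scheme.{u}) (q₁ : X₁ ⟶ Spec (CommRingCat.of Ω')) (j : X₁ ⟶ X')
      (i₁ : (yon S).obj (A.ptOver (q₁ ≫ ι ≫ t)) ⟶ A.X)
      (h₁ : IsPullback i₁ ((yon S).map (A.fibHom (ι ≫ t) q₁)) A.f ((yon S).map (A.ptHom (ι ≫ t))))
      (σ : Fin n → (Spec (CommRingCat.of Ω) ⟶ X')) (σ₁ : Fin n → (Spec (CommRingCat.of Ω') ⟶ X₁)),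
      IsPullback j q₁ q ι ∧ (∀ k, σ k ≫ q = 𝟙 _) ∧ (∀ k, σ₁ k ≫ q₁ = 𝟙 _) ∧ (∀ k, σ₁ k ≫ j = ι ≫ σ k) ∧
      (fun k => (σ k).base (IsLocalRing.closedPoint Ω)) = A.spMarkedPt hP ∧
      (fun k => (σ₁ k).base (IsLocalRing.closedPoint Ω')) = A.spMarkedPt h₁ := by
  let X₁ := pullback q ι
  let q₁ : X₁ ⟶ Spec (CommRingCat.of Ω') := pullback.snd q ι
  let j : X₁ ⟶ X' := pullback.fst q ι
  have sq : IsPullback j q₁ q ι := IsPullback.of_hasPullback q ι
  let jO : A.ptOver (q₁ ≫ ι ≫ t) ⟶ A.ptOver (q ≫ t) := Over.homMk j (by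
    show j ≫ (q ≫ t) ≫ A.base.hom = (q₁ ≫ ι ≫ t) ≫ A.base.hom
    rw [← Category.assoc, ← Category.assoc j q t, sq.w, Category.assoc q₁ ι t])
  let ιO : A.ptOver (ι ≫ t) ⟶ A.ptOver t := Over.homMk ι (by
    show ι ≫ t ≫ A.base.hom = (ι ≫ t) ≫ A.base.hom
    rw [Category.assoc])
  have sqO : IsPullback jO (A.fibHom (ι ≫ t) q₁) (A.fibHom t q) ιO :=
    IsPullback.of_map (Over.forget S) (Over.OverMorphism.ext sq.w) sq
  have e : ιO ≫ A.ptHom t = A.ptHom (ι ≫ t) := Over.OverMorphism.ext rfl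
  have h₁ : IsPullback ((yon S).map jO ≫ i) ((yon S).map (A.fibHom (ι ≫ t) q₁)) A.f
      ((yon S).map (A.ptHom (ι ≫ t))) := by
    rw [← e, Functor.map_comp]
    exact (sqO.map (yon S)).paste_horiz hP
  choose σO hσ₁ hσ₂ hσ₃ using exists_sectHom A hP
  have hσ : ∀ k, (σO k).left ≫ q = 𝟙 _ := fun k => congrArg CommaMorphism.left (hσ₁ k)
  let σ₁ : Fin n → (Spec (CommRingCat.of Ω') ⟶ X₁) := fun k => pullback.lift (ι ≫ (σO k).left) (𝟙 _) (by
    rw [Category.assoc, Category.id_comp]; exact (congrArg (ι ≫ ·) (hσ k)).trans (Category.comp_id _))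
  have hw₁ : ∀ k, σ₁ k ≫ q₁ = 𝟙 _ := fun k => pullback.lift_snd _ _ _
  have hwj : ∀ k, σ₁ k ≫ j = ι ≫ (σO k).left := fun k => pullback.lift_fst _ _ _
  refine ⟨X₁, q₁, j, _, h₁, fun k => (σO k).left, σ₁, sq, hσ, hw₁, hwj,
    funext fun k => (hσ₃ k).symm, funext fun k => ?_⟩
  let σ₁O : A.ptOver (ι ≫ t) ⟶ A.ptOver (q₁ ≫ ι ≫ t) := Over.homMk (σ₁ k) (by
    show σ₁ k ≫ (q₁ ≫ ι ≫ t) ≫ A.base.hom = (ι ≫ t) ≫ A.base.hom
    rw [← Category.assoc, ← Category.assoc (σ₁ k) q₁, hw₁ k, Category.id_comp])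
  refine (spMarkedPt_eq A h₁ (σ := σ₁O) (Over.OverMorphism.ext (hw₁ k)) ?_).symm
  have ej : σ₁O ≫ jO = ιO ≫ σO k := Over.OverMorphism.ext (hwj k)
  rw [← Functor.map_comp_assoc, ej, Functor.map_comp, Category.assoc, hσ₂, ← Functor.map_comp_assoc, e]

/-- Points with the same image have a common geometric point. -/
theorem exists_common_point {Ω : Type u} [Field Ω] {T T' : Scheme.{u}} (g : T' ⟶ T)
    (t : Spec (CommRingCat.of Ω) ⟶ T) (t' : ↥T') (h : g t' = t (IsLocalRing.closedPoint Ω)) :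
    ∃ (Ω' : Type u) (_ : Field Ω') (_ : IsAlgClosed Ω') (ι : Spec (CommRingCat.of Ω') ⟶ Spec (CommRingCat.of Ω))
      (s : Spec (CommRingCat.of Ω') ⟶ T'), ι ≫ t = s ≫ g ∧ s (IsLocalRing.closedPoint Ω') = t' := by
  obtain ⟨z, hz, -⟩ := Scheme.exists_preimage_of_isPullback (IsPullback.of_hasPullback g t) t'
    (IsLocalRing.closedPoint Ω) h
  let P := pullback g t
  let Ω' := AlgebraicClosure (P.residueField z)
  let w : Spec (CommRingCat.of Ω') ⟶ P :=
    Spec.map (CommRingCat.ofHom (algebraMap (P.residueField z) Ω')) ≫ P.fromSpecResidueField z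
  refine ⟨Ω', inferInstance, inferInstance, w ≫ pullback.snd g t, w ≫ pullback.fst g t, ?_, ?_⟩
  · simp only [w, Category.assoc, pullback.condition]
  · show (pullback.fst g t) ((P.fromSpecResidueField z) _) = t'
    rw [Scheme.fromSpecResidueField_apply]
    exact hz

/-- A base change of a family has all geometric fibres in the class iff it maps to the good set. -/
theorem geomFib_iff_range {P : FibClass.{u} n} (hP : ExtInvariant P) {A B : CurvSt.SpFamObj S n} (φ : B ⟶ A) :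
    CurvSt.GeomFib P B ↔ Set.range φ.base.left ⊆ goodSet P A := by
  constructor
  · rintro H _ ⟨t', rfl⟩ Ω _ _ t ht X' q i hsq
    obtain ⟨Ω', _, _, ι, s, hs, -⟩ := exists_common_point φ.base.left t t' ht.symm
    obtain ⟨X₁, q₁, j, i₁, h₁, σ, σ₁, sq, hσ, hσ₁, hj, e, e₁⟩ := exists_square_ext A ι hsq
    rw [← e, hP Ω Ω' ι X' q σ X₁ q₁ j σ₁ hσ sq hσ₁ hj, e₁]
    clear e e₁ sq hj
    revert i₁
    rw [hs]
    intro i₁ h₁
    obtain ⟨iB, hB, eB⟩ := exists_square_lift φ s q₁ h₁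
    rw [← eB]
    exact H Ω' s X₁ q₁ iB hB
  · intro H Ω _ _ t X' q i hsq
    rw [← spMarkedPt_comp φ t q hsq]
    exact H ⟨_, rfl⟩ Ω (t ≫ φ.base.left) (Scheme.Hom.comp_apply _ _ _) X' q _ (isPullback_comp φ t q hsq)

/-- An open class of geometric fibres cuts out an open substack of any stack of pointed families. -/
theorem isOpenSubstack_geomFib {P : FibClass.{u} n} (hP : ExtInvariant P) {R : CurvSt.SpFamObj S n → Prop}
    (hU : AlgSt.IsAlgStack Scheme.fppfPrecoverage (AlgSt.fullSub (CurvSt.SpFam S n) R))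
    (h : ∀ A, R A → IsOpen (goodSet P A)) :
    AlgSt.IsOpenSubstack (AlgSt.fullSub (CurvSt.SpFam S n) R) (fun A => CurvSt.GeomFib P A.obj)
      Scheme.fppfPrecoverage :=
  isOpenSubstack_of_loci hU _ fun A => ⟨⟨_, h A.obj A.property⟩, fun _ φ => geomFib_iff_range hP φ.hom⟩

end Groth.CurvStOpen
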