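import Groth.Agent.Ega2Proj2.BaseChange
import Groth.Agent.Misc13.ProjFactor
import Mathlib.RingTheory.TensorProduct.MvPolynomial

/-!
# Projective space over a ring is smooth

A slim copy of the comparison of `PnCoh.OverAffine` without its cohomological imports.
-/

set_option autoImplicit false

universe u

open CategoryTheory CategoryTheory.Limits AlgebraicGeometry
open scoped HomogeneousIdeal

noncomputable section

namespace Groth.CurvStOpen.Line

variable (n : ℕ)

section General

variable (Z R : Type u) [CommRing Z] [CommRing R] [Algebra Z R]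

attribute [local instance] MvPolynomial.algebraMvPolynomial

/-- The graded homomorphism `Z[X] → R[X]`. -/
def polyMapGraded : CohB1.polyGrading n Z →+*ᵍ CohB1.polyGrading n R where
  toRingHom := MvPolynomial.map (algebraMap Z R)
  map_mem h := MvPolynomial.IsHomogeneous.map h _

lemma polyMapGraded_apply (x : MvPolynomial (Fin (n + 1)) Z) :
    polyMapGraded n Z R x = algebraMap (MvPolynomial (Fin (n + 1)) Z) (MvPolynomial (Fin (n + 1)) R) x :=
  rfl

lemma irrelevant_le_map_polyMap :
    (CohB1.polyGrading n R)₊ ≤ ((CohB1.polyGrading n Z)₊).map (polyMapGraded n Z R) :=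
  Ega2P2.irrelevant_le_map_of_pushout (polyMapGraded n Z R) (R := Z) (R' := R)
    (fun _ => rfl) (fun r => SetLike.algebraMap_mem_graded (CohB1.polyGrading n R) r) inferInstance

/-- `P^n_R → P^n_Z`. -/
def toBasePn : CohB1.ProjSpace n R ⟶ CohB1.ProjSpace n Z :=
  Proj.map (polyMapGraded n Z R) (irrelevant_le_map_polyMap n Z R)

theorem isPullback_toBasePn :
    IsPullback (toBasePn n Z R) (CohB1.ProjSpace.toSpec n R) (CohB1.ProjSpace.toSpec n Z)
      (Spec.map (CommRingCat.ofHom (algebraMap Z R))) := by
  have h := CommRingCat.isPushout_of_isPushout Z R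
    (MvPolynomial (Fin (n + 1)) Z) (MvPolynomial (Fin (n + 1)) R)
  exact Ega2P2.isPullback_projMap (polyMapGraded n Z R) (CommRingCat.ofHom (algebraMap Z R))
    (CommRingCat.ofHom (algebraMap Z (MvPolynomial (Fin (n + 1)) Z)))
    (CommRingCat.ofHom (algebraMap R (MvPolynomial (Fin (n + 1)) R)))
    (CommRingCat.ofHom (algebraMap Z (CohB1.polyGrading n Z 0)))
    (CommRingCat.ofHom (algebraMap R (CohB1.polyGrading n R 0)))
    (fun _ => rfl) (fun _ => rfl) h (irrelevant_le_map_polyMap n Z R)
end General

/-- Projective space over a ring is smooth over it. -/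
theorem smooth_toSpec (R : Type u) [CommRing R] : Smooth (CohB1.ProjSpace.toSpec n R) := by
  let _ : Algebra (ULift.{u} ℤ) R :=
    ((Int.castRingHom R).comp (ULift.ringEquiv : ULift.{u} ℤ ≃+* ℤ).toRingHom).toAlgebra
  exact MorphismProperty.of_isPullback (P := @Smooth.{u}) (isPullback_toBasePn n (ULift.{u} ℤ) R)
    (Groth.Misc13.ProjFactor.smooth_projSpace_toSpec n)

end Groth.CurvStOpen.Line
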