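import Groth.Agent.CurvStField.Geom
import Groth.Agent.CurvStField.CMDimOne
import Groth.Agent.SpectralTopology.Dim
import Groth.Agent.AlgSp2.FiniteMor
import Groth.Agent.AlgSpBasic.LocPInst
import Groth.Agent.Variety2.ProjDim
import Groth.Agent.CurvStOpen.LineSmooth
import Groth.Prelude.Def_StCurv2
import Groth.Prelude.Def_AlgSt3

/-!
# Objects of the stack of curves over field valued points
-/

set_option autoImplicit false
set_option backward.isDefEq.respectTransparency false
set_option backward.isDefEq.respectTransparency.types false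

universe u

open CategoryTheory CategoryTheory.Limits AlgebraicGeometry AlgSp Groth.AlgSpBasic

noncomputable section

namespace Groth.CurvStOpen

variable {S : Scheme.{u}} {k : Type u} [Field k] {X : Scheme.{u}} (p : X ⟶ Spec (CommRingCat.of k))
  (t : Spec (CommRingCat.of k) ⟶ S)

theorem isCurveFam_famObj [IsProper p] (hdim : topologicalKrullDim ↥X ≤ 1) :
    CurvSt.IsCurveFam (Groth.CurvStField.famObj p t) := by
  let g : Over.mk (p ≫ t) ⟶ Over.mk t := Over.homMk p rfl
  have hrep : RepWith @IsProper ((yon S).map g) := (repWith_yon_map_iff @IsProper g).2 (show IsProper p from inferInstance)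
  have hX := IsAlgSpace.yon_obj (S := S) (Over.mk (p ≫ t))
  have hY := IsAlgSpace.yon_obj (S := S) (Over.mk t)
  have hfl : LocP @Flat ((yon S).map g) :=
    locP_of_repWith ((repWith_yon_map_iff @Flat g).2 (Groth.CurvStField.flat_of_field p))
  have hlfp : LocP @LocallyOfFinitePresentation ((yon S).map g) :=
    locP_of_repWith ((repWith_yon_map_iff @LocallyOfFinitePresentation g).2
      (show LocallyOfFinitePresentation p from inferInstance))
  have hpr : IsProperMor ((yon S).map g) :=
    (Groth.AlgSp2.isProperMor_iff_repWith hX hY hrep.1).2 hrep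
  refine ⟨hX, hfl, hpr, ⟨hlfp, hpr.2.1.2, repWith_mono (fun _ _ φ (_ : IsClosedImmersion φ) =>
    (inferInstance : QuasiCompact φ)) hpr.1⟩, fun x => ?_⟩
  obtain ⟨v, rfl⟩ := (Points.schemeHomeo (Over.mk (p ≫ t))).surjective x
  refine ⟨Over.mk (p ≫ t), Over.mk t, 𝟙 _, 𝟙 _, g, v, repWith_id _ _, repWith_id _ _,
    (Category.id_comp _).trans (Category.comp_id _).symm, rfl, ?_⟩
  show FlatMor.fibreDimAt p v ≤ _
  unfold FlatMor.fibreDimAt
  exact (Groth.SpectralTopology.localDim_le_dim _).trans
    ((Groth.CurvStField.topologicalKrullDim_fiber p _).trans_le (by exact_mod_cast hdim))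

/-- A family over a point gives an object of a full subcategory of the stack of curves. -/
theorem nonempty_fiber [IsProper p] (hdim : topologicalKrullDim ↥X ≤ 1) {Q : (CurvSt.Curves S 0).obj → Prop}
    (hQ : Q ⟨Groth.CurvStField.famObj p t, isCurveFam_famObj p t hdim⟩) :
    Nonempty ((AlgSt.fullSub (CurvSt.Curves S 0) Q).p.Fiber (Over.mk t)) :=
  ⟨⟨⟨_, hQ⟩, rfl⟩⟩

theorem dim_point : topologicalKrullDim ↥(Spec (CommRingCat.of k)) ≤ 1 := by
  show topologicalKrullDim (PrimeSpectrum k) ≤ 1
  rw [PrimeSpectrum.topologicalKrullDim_eq_ringKrullDim, ringKrullDim_eq_zero_of_field]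
  exact zero_le_one

theorem isProper_line : IsProper (CohB1.ProjSpace.toSpec 1 k) :=
  Groth.Variety2.isProper_projSpace_toSpec 1 k

theorem smooth_line : Smooth (CohB1.ProjSpace.toSpec 1 k) :=
  Line.smooth_toSpec 1 k

theorem irreducibleSpace_line : IrreducibleSpace ↥(CohB1.ProjSpace 1 k) := by
  rw [irreducibleSpace_def]
  have h : closure ({Groth.Variety2.PSpace.eta 1 k} : Set ↥(CohB1.ProjSpace 1 k)) = Set.univ :=
    Set.eq_univ_of_forall fun x => (Groth.Variety2.PSpace.eta_specializes (k := k) x).mem_closure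
  rw [Set.top_eq_univ, ← h]
  exact isIrreducible_singleton.closure

theorem dim_line : topologicalKrullDim ↥(CohB1.ProjSpace 1 k) = 1 :=
  (Groth.Variety2.PSpace.dim_projSpace (k := k) (n := 1)).trans (by norm_num)

end Groth.CurvStOpen
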