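import Groth.Agent.CurvStOpen.PtLocus
import Groth.Agent.CurvStOpen.CMInv
import Groth.Agent.CurvStOpen.Witness
import Groth.Agent.CurvStField.LocP
import Groth.Agent.CMMor.BaseChange
import Groth.Agent.CMMor.Criterion
import Groth.Agent.Dual3Gor.Open
import Groth.Agent.GorMor.BaseChange
import Groth.Agent.AlgSpCartier.LciLocus
import Groth.Agent.FibreDim.BaseChange
import Groth.Agent.Variety2.DimScheme

/-!
# The Cohen–Macaulay, Gorenstein and local complete intersection open substacks of the stack of curves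
-/

set_option autoImplicit false
set_option backward.isDefEq.respectTransparency false
set_option backward.isDefEq.respectTransparency.types false

universe u

open CategoryTheory CategoryTheory.Limits AlgebraicGeometry AlgSp Groth.AlgSpBasic Groth.AlgSp3

noncomputable section

namespace Groth.CurvStOpen

variable {S : Scheme.{u}} {n : ℕ} (hC : AlgSt.IsAlgStack Scheme.fppfPrecoverage (CurvSt.Curves S n))

include hC

theorem isOpenSubstack_cm :
    AlgSt.IsOpenSubstack (CurvSt.Curves S n)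
      (fun A => LocP (fun _ _ g => ∀ x, MoreMor.IsCMAt g x) A.obj.f) Scheme.fppfPrecoverage :=
  isOpenSubstack_pointwise etMor_isCMAt (fun h _ _ => Groth.CMMor.isOpen_isCMAt h)
    (fun h _ _ g h' g' hc u' => by
      have : Flat h' := MorphismProperty.of_isPullback hc inferInstance
      rw [Groth.CMMor.isCMAt_iff, Groth.CMMor.isCMAt_iff]
      exact Groth.CMMor.isCM_fiberStalk_baseChange_iff h g h' g' hc u')
    hC _ fun A => (forall_hasAtMor_iff_locP etMor_isCMAt A.property.1 (IsAlgSpace.yon_obj _) _).symm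

theorem isOpenSubstack_gorenstein :
    AlgSt.IsOpenSubstack (CurvSt.Curves S n)
      (fun A => LocP (fun _ _ g => ∀ x, (g.stalkMap x).hom.Flat ∧
        LocCoh.IsGorensteinLocalRing ((g.fiber (g x)).presheaf.stalk (g.asFiber x))) A.obj.f)
      Scheme.fppfPrecoverage :=
  isOpenSubstack_pointwise etMor_isGorensteinAt (fun h _ _ => Groth.Dual3Gor.isOpen_isGorensteinAt h)
    (fun h _ _ g h' g' hc u' => Groth.GorMor.isGorensteinAt_baseChange_iff h g h' g' hc u')
    hC _ fun A => (forall_hasAtMor_iff_locP etMor_isGorensteinAt A.property.1 (IsAlgSpace.yon_obj _) _).symm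

/-- Being a curve condition together with fibre dimension one, at the points. -/
theorem isOpenSubstack_and_dimOne {P : ∀ U V : Scheme.{u}, (U ⟶ V) → ↥U → Prop} (hinv : EtMorInvariant P)
    (hopen : ∀ {U V : Scheme.{u}} (h : U ⟶ V) [Flat h] [LocallyOfFinitePresentation h], IsOpen {u | P U V h u})
    (hbc : ∀ {U V U' V' : Scheme.{u}} (h : U ⟶ V) [Flat h] [LocallyOfFinitePresentation h] (g : V' ⟶ V)
      (h' : U' ⟶ V') (g' : U' ⟶ U), IsPullback g' h' h g → ∀ u', P U' V' h' u' ↔ P U V h (g' u'))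
    (hcm : ∀ {U V : Scheme.{u}} (h : U ⟶ V) (u : U), P U V h u → MoreMor.IsCMAt h u) :
    AlgSt.IsOpenSubstack (CurvSt.Curves S n)
      (fun A => LocP (fun U V g => ∀ x, P U V g x) A.obj.f ∧
        ∀ x : Points A.obj.X, HasAtMor (fun _ _ h u => FlatMor.fibreDimAt h u = ((1 : ℕ) : WithBot ℕ∞)) A.obj.f x)
      Scheme.fppfPrecoverage := by
  have hd := etMor_fibreDimAt.{u}.map (fun d => d = ((1 : ℕ) : WithBot ℕ∞))
  have hboth : EtMorInvariant fun U V h u => P U V h u ∧ FlatMor.fibreDimAt h u = ((1 : ℕ) : WithBot ℕ∞) :=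
    { precomp := fun e _ h u => congrArg₂ And (hinv.precomp e h u) (hd.precomp e h u)
      postcomp := fun h e _ u => congrArg₂ And (hinv.postcomp h e u) (hd.postcomp h e u) }
  refine isOpenSubstack_pointwise hboth (fun h _ _ => ?_) (fun h _ _ g h' g' hc u' => ?_) hC _ fun A => ?_
  · refine isOpen_iff_forall_mem_open.2 fun u hu => ?_
    obtain ⟨W, huW, hW⟩ := Groth.CMMor.exists_nhd_isCMAt h u (hcm h u hu.1)
    exact ⟨{v | P _ _ h v} ∩ W, fun v hv => ⟨hv.1, (hW v hv.2).2.trans hu.2⟩,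
      (hopen h).inter W.2, hu.1, huW⟩
  · rw [hbc h g h' g' hc u', Groth.FibreDim.fibreDimAt_baseChange h g h' g' hc u']
  · have hY : IsAlgSpace ((yon S).obj A.obj.base) := IsAlgSpace.yon_obj _
    rw [← forall_hasAtMor_iff_locP hinv A.property.1 hY, ← forall_and]
    refine forall_congr' fun x => ?_
    obtain ⟨U, V, a, b, h, u, ha, hb, comm, rfl⟩ := exists_chart_at A.property.1 hY A.obj.f x
    have e1 : HasAtMor P A.obj.f (Points.ofPt a u) ↔ P _ _ h.left u :=
      hasAtMor_iff_of_chart hinv id A.property.1.diag hY.diag ha hb comm u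
    have e2 : HasAtMor (fun _ _ h u => FlatMor.fibreDimAt h u = ((1 : ℕ) : WithBot ℕ∞)) A.obj.f (Points.ofPt a u) ↔
        FlatMor.fibreDimAt h.left u = ((1 : ℕ) : WithBot ℕ∞) :=
      hasAtMor_iff_of_chart hd id A.property.1.diag hY.diag ha hb comm u
    have e3 : HasAtMor (fun U V h u => P U V h u ∧ FlatMor.fibreDimAt h u = ((1 : ℕ) : WithBot ℕ∞)) A.obj.f
        (Points.ofPt a u) ↔ _ :=
      hasAtMor_iff_of_chart hboth id A.property.1.diag hY.diag ha hb comm u
    rw [e1, e2, e3]
    rfl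

theorem isOpenSubstack_cm_dimOne :
    AlgSt.IsOpenSubstack (CurvSt.Curves S n)
      (fun A => LocP (fun _ _ g => ∀ x, MoreMor.IsCMAt g x) A.obj.f ∧
        ∀ x : Points A.obj.X, HasAtMor (fun _ _ h u => FlatMor.fibreDimAt h u = ((1 : ℕ) : WithBot ℕ∞)) A.obj.f x)
      Scheme.fppfPrecoverage :=
  isOpenSubstack_and_dimOne hC etMor_isCMAt (fun h _ _ => Groth.CMMor.isOpen_isCMAt h)
    (fun h _ _ g h' g' hc u' => by
      have : Flat h' := MorphismProperty.of_isPullback hc inferInstance
      rw [Groth.CMMor.isCMAt_iff, Groth.CMMor.isCMAt_iff]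
      exact Groth.CMMor.isCM_fiberStalk_baseChange_iff h g h' g' hc u')
    fun _ _ h => h

theorem isOpenSubstack_gorenstein_dimOne :
    AlgSt.IsOpenSubstack (CurvSt.Curves S n)
      (fun A => LocP (fun _ _ g => ∀ x, (g.stalkMap x).hom.Flat ∧
          LocCoh.IsGorensteinLocalRing ((g.fiber (g x)).presheaf.stalk (g.asFiber x))) A.obj.f ∧
        ∀ x : Points A.obj.X, HasAtMor (fun _ _ h u => FlatMor.fibreDimAt h u = ((1 : ℕ) : WithBot ℕ∞)) A.obj.f x)
      Scheme.fppfPrecoverage :=
  isOpenSubstack_and_dimOne hC etMor_isGorensteinAt (fun h _ _ => Groth.Dual3Gor.isOpen_isGorensteinAt h)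
    (fun h _ _ g h' g' hc u' => Groth.GorMor.isGorensteinAt_baseChange_iff h g h' g' hc u')
    fun _ _ h => Groth.Dual3Gor.isCMAt_of_isGorensteinAt h

theorem isOpenSubstack_lci :
    AlgSt.IsOpenSubstack (CurvSt.Curves S n) (fun A => IsLCIMor A.obj.f) Scheme.fppfPrecoverage := by
  refine isOpenSubstack_pointwise Groth.AlgSpCartier.LciLocus.etMor_nearPt (fun h _ _ => ?_)
    (fun h _ _ g h' g' hc u' => ?_) hC _ fun A => ?_
  · exact isOpen_iff_forall_mem_open.2 fun u ⟨O, hu, hO⟩ => ⟨O, fun v hv => ⟨O, hv, hO⟩, O.2, hu⟩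
  · rw [Groth.AlgSpCartier.LciLocus.nearPt_iff, Groth.AlgSpCartier.LciLocus.nearPt_iff]
    have : Flat (h ≫ 𝟙 _) := by rw [Category.comp_id]; infer_instance
    have : LocallyOfFinitePresentation (h ≫ 𝟙 _) := by rw [Category.comp_id]; infer_instance
    refine Groth.KoszulLCI.inLCILocus_baseChange h (𝟙 _) g g (𝟙 _) g' h'
      (IsPullback.of_vert_isIso ⟨by simp⟩) ?_ hc.w u'
    simpa using hc
  · rw [forall_hasAtMor_iff_locP Groth.AlgSpCartier.LciLocus.etMor_nearPt A.property.1 (IsAlgSpace.yon_obj _)]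
    refine forall_congr' fun U => forall_congr' fun V => forall_congr' fun a => forall_congr' fun b =>
      forall_congr' fun g => imp_congr_right fun _ => imp_congr_right fun _ => imp_congr_right fun _ => ?_
    rw [Groth.LciSp.lci_iff]
    exact ⟨fun H u => ⟨⊤, trivial, MorphismProperty.comp_mem _ _ _ (Groth.KoszulLCI.morLCI_of_smooth _) H⟩,
      Groth.AlgSpCartier.LciLocus.morLCI_of_nearPt _⟩

omit hC

variable {k : Type u} [Field k] (t : Spec (CommRingCat.of k) ⟶ S)

theorem locP_gorenstein_of_smooth {X : Scheme.{u}} (p : X ⟶ Spec (CommRingCat.of k)) [Smooth p] :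
    LocP (fun _ _ g => ∀ x, (g.stalkMap x).hom.Flat ∧
        LocCoh.IsGorensteinLocalRing ((g.fiber (g x)).presheaf.stalk (g.asFiber x)))
      (Groth.CurvStField.famObj p t).f := by
  refine (Groth.CurvStField.locP_gorenstein_iff p t).2 fun x => ?_
  obtain ⟨e⟩ := Groth.CurvStField.exists_fibreStalkEquiv p x (Groth.CurvStField.maximalIdeal_stalk_spec_field k _)
  exact (Groth.AlgSpEt.GorRing.isGorenstein_iff_of_ringEquiv e).2 (Groth.Dual3Gor.isGorensteinAt_of_smooth p x).2

theorem locP_cm_of_smooth {X : Scheme.{u}} (p : X ⟶ Spec (CommRingCat.of k)) [Smooth p] :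
    LocP (fun _ _ g => ∀ x, MoreMor.IsCMAt g x) (Groth.CurvStField.famObj p t).f :=
  fun U V a b h ha hb comm u =>
    Groth.Dual3Gor.isCMAt_of_isGorensteinAt (locP_gorenstein_of_smooth t p a b h ha hb comm u)

theorem isLCIMor_of_smooth {X : Scheme.{u}} (p : X ⟶ Spec (CommRingCat.of k)) [Smooth p] :
    IsLCIMor (Groth.CurvStField.famObj p t).f :=
  (Groth.CurvStField.isLCIMor_iff p t).2
    ((Groth.LciSp.lci_iff p).2 (Groth.KoszulLCI.morLCI_of_smooth p))

/-- The projective line has fibre dimension one at every point. -/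
theorem hasAtMor_dimOne_line (x : Points (Groth.CurvStField.famObj (CohB1.ProjSpace.toSpec 1 k) t).X) :
    HasAtMor (fun _ _ h u => FlatMor.fibreDimAt h u = ((1 : ℕ) : WithBot ℕ∞))
      (Groth.CurvStField.famObj (CohB1.ProjSpace.toSpec 1 k) t).f x := by
  let p := CohB1.ProjSpace.toSpec 1 k
  obtain ⟨v, rfl⟩ := (Points.schemeHomeo (Over.mk (p ≫ t))).surjective x
  refine ⟨Over.mk (p ≫ t), Over.mk t, 𝟙 _, 𝟙 _, Over.homMk p rfl, v, repWith_id _ _, repWith_id _ _,
    (Category.id_comp _).trans (Category.comp_id _).symm, rfl, ?_⟩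
  show FlatMor.fibreDimAt p v = _
  have := isProper_line (k := k)
  have := irreducibleSpace_line (k := k)
  refine le_antisymm ?_ ?_
  · unfold FlatMor.fibreDimAt
    exact (Groth.SpectralTopology.localDim_le_dim _).trans
      ((Groth.CurvStField.topologicalKrullDim_fiber p _).trans dim_line).le
  · unfold FlatMor.fibreDimAt
    obtain ⟨W, hW, hdim⟩ := Groth.SpectralTopology.exists_localDim_eq (p.asFiber v)
    have hr : Function.Surjective (p.fiberι (p v)) := Set.range_eq_univ.1 (by
      rw [p.range_fiberι]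
      exact Set.eq_univ_of_forall fun w => (Subsingleton.elim (α := PrimeSpectrum k) _ _ : p w = p v))
    let e : ↥(p.fiber (p v)) ≃ₜ ↥(CohB1.ProjSpace 1 k) :=
      (Equiv.ofBijective _ ⟨(p.fiberι (p v)).isEmbedding.injective, hr⟩).toHomeomorphOfIsInducing
        (p.fiberι (p v)).isEmbedding.isInducing
    let W' : (CohB1.ProjSpace 1 k).Opens := ⟨e '' W, e.isOpenMap _ W.2⟩
    have h1 : topologicalKrullDim W'.toScheme = topologicalKrullDim (W : Set ↥(p.fiber (p v))) :=
      ((e.image (W : Set ↥(p.fiber (p v)))).isHomeomorph.topologicalKrullDim_eq _).symm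
    rw [← hdim, ← h1, Groth.Variety2.Dim.dim_opens p W' ⟨_, _, hW, rfl⟩, dim_line]
    rfl

end Groth.CurvStOpen
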