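import Groth.Agent.AlgSp3.NbhdInv
import Groth.Agent.AlgSp3.HasAtMor
import Groth.Agent.AlgSpBasic.LocPInst
import Groth.Agent.S2155
import Groth.Agent.CurvStField.Geom
import Groth.Agent.FibreDim.BaseChange
import Groth.Agent.FibreDim.Semicontinuity
import Groth.Agent.FibreDim.Composition

/-!
# Points at which the singular locus of a morphism is quasi-finite over the base
-/

set_option autoImplicit false
set_option backward.isDefEq.respectTransparency false
set_option backward.isDefEq.respectTransparency.types false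

universe u

open CategoryTheory CategoryTheory.Limits AlgebraicGeometry Topology TopologicalSpace Groth.AlgSp3

noncomputable section

namespace Groth.CurvStOpen

/-- The points with no smooth neighbourhood. -/
def badSet {U V : Scheme.{u}} (h : U ⟶ V) : Set U :=
  {x : U | ¬ ∃ W : U.Opens, x ∈ W ∧ Smooth (W.ι ≫ h)}

/-- The points without smooth neighbourhood of the fibre through a point. -/
def badFibre {U V : Scheme.{u}} (h : U ⟶ V) (u : U) : Set U := {x | x ∈ badSet h ∧ h x = h u}

/-- Near the point the bad points of its fibre are discrete. -/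
def IsolBad (U V : Scheme.{u}) (h : U ⟶ V) (u : U) : Prop :=
  ∀ hu : u ∈ badSet h, FlatMor.localDim ↥(badFibre h u) ⟨u, hu, rfl⟩ ≤ 0

theorem isClosed_badSet {U V : Scheme.{u}} (h : U ⟶ V) : IsClosed (badSet h) := by
  rw [← isOpen_compl_iff, isOpen_iff_forall_mem_open]
  intro x hx
  obtain ⟨W, hxW, hW⟩ := not_not.1 hx
  exact ⟨W, fun y hy hy' => hy' ⟨W, hy, hW⟩, W.2, hxW⟩

/-- A closed subscheme with the bad points as underlying set. -/
theorem exists_badScheme {U V : Scheme.{u}} (h : U ⟶ V) :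
    ∃ (Z : Scheme.{u}) (i : Z ⟶ U), IsClosedImmersion i ∧ Set.range i = badSet h :=
  ⟨_, (Scheme.IdealSheafData.vanishingIdeal ⟨_, isClosed_badSet h⟩).subschemeι, inferInstance, by
    rw [Scheme.IdealSheafData.range_subschemeι, Scheme.IdealSheafData.coe_support_vanishingIdeal]; rfl⟩

theorem fibreDimAt_badScheme {U V Z : Scheme.{u}} (h : U ⟶ V) (i : Z ⟶ U) [IsClosedImmersion i]
    (hr : Set.range i = badSet h) (z : Z) (hu : i z ∈ badSet h) :
    FlatMor.fibreDimAt (i ≫ h) z = FlatMor.localDim ↥(badFibre h (i z)) ⟨i z, hu, rfl⟩ := by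
  have h1 := Groth.FibreDim.fibreDimAt_eq_of_range (i ≫ h) (h (i z))
    (A := ↥((i ≫ h) ⁻¹' {h (i z)})) (e := Subtype.val) IsEmbedding.subtypeVal Subtype.range_coe ⟨z, rfl⟩
  rw [h1]
  refine Groth.FibreDim.localDim_eq_of_range (X := U) (i.isClosedEmbedding.isEmbedding.comp IsEmbedding.subtypeVal)
    IsEmbedding.subtypeVal ?_ rfl
  rw [Subtype.range_coe, Set.range_comp, Subtype.range_coe]
  ext x
  constructor
  · rintro ⟨y, hy, rfl⟩
    exact ⟨hr.le ⟨y, rfl⟩, hy⟩
  · rintro ⟨hx, hx'⟩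
    obtain ⟨y, rfl⟩ := hr.ge hx
    exact ⟨y, hx', rfl⟩

theorem isolBad_iff_of_mem {U V Z : Scheme.{u}} (h : U ⟶ V) (i : Z ⟶ U) [IsClosedImmersion i]
    (hr : Set.range i = badSet h) (z : Z) : IsolBad U V h (i z) ↔ FlatMor.fibreDimAt (i ≫ h) z ≤ 0 := by
  rw [fibreDimAt_badScheme h i hr z (hr.le ⟨z, rfl⟩)]
  exact ⟨fun H => H (hr.le ⟨z, rfl⟩), fun H _ => H⟩

theorem isolBad_of_not_mem {U V : Scheme.{u}} {h : U ⟶ V} {u : U} (hu : u ∉ badSet h) : IsolBad U V h u :=
  fun hu' => absurd hu' hu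

theorem badSet_etale_comp {U' U V : Scheme.{u}} (e : U' ⟶ U) [Etale e] (h : U ⟶ V) :
    badSet (e ≫ h) = e ⁻¹' badSet h :=
  Set.ext fun u => not_congr (Iff.of_eq ((etMor_nbhd @Smooth).precomp e h u))

theorem badSet_comp_etale {U V V' : Scheme.{u}} (h : U ⟶ V) (e : V ⟶ V') [Etale e] :
    badSet (h ≫ e) = badSet h :=
  Set.ext fun u => not_congr (Iff.of_eq ((etMor_nbhd @Smooth).postcomp h e u))

theorem etMor_isolBad : EtMorInvariant.{u} IsolBad where
  precomp {U' U V} e _ h u := by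
    refine propext ?_
    obtain ⟨Z, i, _, hr⟩ := exists_badScheme h
    by_cases hu : e u ∈ badSet h
    · obtain ⟨z, hz⟩ := hr.ge hu
      obtain ⟨z', hz', hz''⟩ := Scheme.exists_preimage_of_isPullback (IsPullback.of_hasPullback e i) u z hz.symm
      have hr' : Set.range (pullback.fst e i) = badSet (e ≫ h) := by
        rw [badSet_etale_comp, ← hr, Scheme.Pullback.range_fst]
      have h1 := isolBad_iff_of_mem (e ≫ h) (pullback.fst e i) hr' z'
      rw [hz', ← Category.assoc, pullback.condition, Category.assoc,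
        fibreDimAt_etale_comp (pullback.snd e i) (i ≫ h) z', hz''] at h1
      rw [h1, ← hz, isolBad_iff_of_mem h i hr z]
    · exact iff_of_true (isolBad_of_not_mem (by rw [badSet_etale_comp]; exact hu)) (isolBad_of_not_mem hu)
  postcomp {U V V'} h e _ u := by
    refine propext ?_
    obtain ⟨Z, i, _, hr⟩ := exists_badScheme h
    by_cases hu : u ∈ badSet h
    · obtain ⟨z, rfl⟩ := hr.ge hu
      rw [isolBad_iff_of_mem h i hr z, isolBad_iff_of_mem (h ≫ e) i (by rw [badSet_comp_etale]; exact hr) z,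
        ← Category.assoc, fibreDimAt_comp_etale (i ≫ h) e z]
    · exact iff_of_true (isolBad_of_not_mem (by rw [badSet_comp_etale]; exact hu)) (isolBad_of_not_mem hu)

theorem isOpen_isolBad {U V : Scheme.{u}} (h : U ⟶ V) [LocallyOfFiniteType h] : IsOpen {u | IsolBad U V h u} := by
  obtain ⟨Z, i, _, hr⟩ := exists_badScheme h
  have e : {u | IsolBad U V h u} = (i '' {z | FlatMor.fibreDimAt (i ≫ h) z ≤ 0}ᶜ)ᶜ := by
    ext u
    refine ⟨?_, fun hu hu' => ?_⟩
    · rintro hu ⟨z, hz, rfl⟩
      exact hz ((isolBad_iff_of_mem h i hr z).1 hu)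
    · obtain ⟨z, rfl⟩ := hr.ge hu'
      exact (isolBad_iff_of_mem h i hr z).2 (by_contra fun hz => hu ⟨z, hz, rfl⟩) hu'
  rw [e]
  refine (i.isClosedEmbedding.isClosedMap _ ?_).isOpen_compl
  rw [isClosed_compl_iff]
  exact_mod_cast Groth.FibreDim.isOpen_fibreDimAt_le (i ≫ h) 0

theorem badSet_baseChange {U V U' V' : Scheme.{u}} (h : U ⟶ V) [Flat h] [LocallyOfFinitePresentation h]
    (g : V' ⟶ V) (h' : U' ⟶ V') (g' : U' ⟶ U) (hc : IsPullback g' h' h g) :
    badSet h' = g' ⁻¹' badSet h := by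
  have : LocallyOfFinitePresentation h' := MorphismProperty.of_isPullback hc inferInstance
  ext x
  refine not_congr ?_
  rw [Groth.CurvStField.exists_smooth_nhd_iff, Groth.CurvStField.exists_smooth_nhd_iff]
  rw [Groth.Agent.S2155.result h g h' g' hc (Or.inl inferInstance)]
  rfl

theorem isolBad_baseChange {U V U' V' : Scheme.{u}} (h : U ⟶ V) [Flat h] [LocallyOfFinitePresentation h]
    (g : V' ⟶ V) (h' : U' ⟶ V') (g' : U' ⟶ U) (hc : IsPullback g' h' h g) (u' : U') :
    IsolBad U' V' h' u' ↔ IsolBad U V h (g' u') := by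
  obtain ⟨Z, i, _, hr⟩ := exists_badScheme h
  by_cases hu : g' u' ∈ badSet h
  · obtain ⟨z, hz⟩ := hr.ge hu
    have sq := IsPullback.of_hasPullback i g'
    obtain ⟨z', hz', hz''⟩ := Scheme.exists_preimage_of_isPullback sq z u' hz
    have hr' : Set.range (pullback.snd i g') = badSet h' := by
      rw [badSet_baseChange h g h' g' hc, ← hr, Scheme.Pullback.range_snd]
    have h1 := isolBad_iff_of_mem h' (pullback.snd i g') hr' z'
    rw [hz'', Groth.FibreDim.fibreDimAt_baseChange (i ≫ h) g _ _ (sq.paste_vert hc) z', hz'] at h1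
    rw [h1, ← hz, isolBad_iff_of_mem h i hr z]
  · exact iff_of_true (isolBad_of_not_mem (by rw [badSet_baseChange h g h' g' hc]; exact hu))
      (isolBad_of_not_mem hu)

end Groth.CurvStOpen
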