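import Groth.Agent.AlgStBasic.Atlas
import Groth.Agent.AlgStBasic.OpenSub
import Groth.Agent.StkBase.Descent2
import Groth.Prelude.Def_AlgSt3

/-!
# Open substacks cut out by open loci in the bases, in any universe pair

The criterion `isOpenSubstack_of_loci` for categories over `(Sch/S)` in an arbitrary universe pair (needed for the
stack of curves with algebraic space total space).
-/

set_option autoImplicit false
set_option backward.isDefEq.respectTransparency false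
set_option backward.isDefEq.respectTransparency.types false

universe v₁ w₁ v₂ w₂ u

open CategoryTheory CategoryTheory.Limits AlgebraicGeometry Opposite
open Groth.StkBase Groth.AlgStBasic

noncomputable section

namespace Groth.CurvStOpen

variable {S : Scheme.{u}} {𝒳 : BasedCategory.{v₁, w₁} (Over S)} {𝒴 : BasedCategory.{v₂, w₂} (Over S)}

theorem isStack_of_repByAlgSp_gen (h : AlgSt.RepByAlgSp 𝒳) : Stk.IsStack (AlgSp.J S) 𝒳 := by
  obtain ⟨X, e, he⟩ := h
  exact (isStack_iff_of_isEquivOver (AlgSp.J S) he).1 ((isStack_ofPsh_iff _ _).2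
    ((isSheaf_iff_isSheaf_of_type _ _).1 X.obj.property))

theorem isStack_of_repByAlgSp1_gen (hX : FibCat.IsFibGrpd 𝒳.p) (hY : Stk.IsStack (AlgSp.J S) 𝒴)
    (j : 𝒳 ⥤ᵇ 𝒴) (hj : AlgSt.RepByAlgSp1 j) : Stk.IsStack (AlgSp.J S) 𝒳 := by
  have := faithful_of_repByAlgSp1 hX hY.1 j hj
  refine ⟨hX, fun U R hR => ?_⟩
  have hYR : (Stk.resSieve R 𝒴).IsEquivalence := hY.2 R hR
  have hQ : ∀ y : FibCat.overCat U ⥤ᵇ 𝒴, (Stk.resSieve R (FibCat.fp y j)).IsEquivalence :=
    fun y => (isStack_of_repByAlgSp_gen (hj U y)).2 R hR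
  have h1 : (Stk.resSieve R 𝒳).Faithful := ⟨fun {G G'} α α' h => by
    have e : (postF _ j).map α = (postF _ j).map α' := (Stk.resSieve R 𝒴).map_injective
      (natTrans_ext fun a => congrArg j.map (congrArg (fun t => t.toNatTrans.app a) h))
    exact natTrans_ext fun a => j.toFunctor.map_injective (congrArg (fun t => t.toNatTrans.app a) e)⟩
  have h2 : (Stk.resSieve R 𝒳).Full := ⟨fun {G G'} α => by
    obtain ⟨β, hβ⟩ := (Stk.resSieve R 𝒴).map_surjective (X := BasedFunctor.comp G j)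
      (Y := BasedFunctor.comp G' j) (BasedCategory.whiskerRight α j)
    have := natTrans_isIso hY.1 β
    let y := BasedFunctor.comp G' j
    let A : FibCat.overCat U ⥤ᵇ FibCat.fp y j :=
      FibCat.fpLift (BasedFunctor.id _) G (asIso β).symm
    let B : FibCat.overCat U ⥤ᵇ FibCat.fp y j :=
      FibCat.fpLift (BasedFunctor.id _) G' (Iso.refl _)
    have := natTrans_isIso hX α
    let γ : (Stk.resSieve R (FibCat.fp y j)).obj A ≅ (Stk.resSieve R (FibCat.fp y j)).obj B :=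
      fpIsoMk (Iso.refl _) (asIso α) fun a => by
        have e : β.toNatTrans.app ((Stk.sieveIncl R).obj a) = j.map (α.toNatTrans.app a) :=
          congrArg (fun t => t.toNatTrans.app a) hβ
        show y.map (𝟙 _) ≫ 𝟙 _ = (isoApp (asIso β) ((Stk.sieveIncl R).obj a)).inv ≫ j.map (α.toNatTrans.app a)
        rw [← e, y.toFunctor.map_id, Category.id_comp]
        exact (isoApp (asIso β) ((Stk.sieveIncl R).obj a)).inv_hom_id.symm
    have := hQ y
    obtain ⟨δ, hδ⟩ := (Stk.resSieve R (FibCat.fp y j)).map_surjective γ.hom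
    exact ⟨BasedCategory.whiskerRight δ (FibCat.fpSnd y j),
      natTrans_ext fun a => congrArg (fun t => (t.toNatTrans.app a).hom.snd) hδ⟩⟩
  have h3 : (Stk.resSieve R 𝒳).EssSurj := ⟨fun H => by
    let y := (Stk.resSieve R 𝒴).objPreimage (BasedFunctor.comp H j)
    let H' : Stk.sieveCat R ⥤ᵇ FibCat.fp y j :=
      FibCat.fpLift (Stk.sieveIncl R) H ((Stk.resSieve R 𝒴).objObjPreimageIso (BasedFunctor.comp H j))
    have := hQ y
    exact ⟨BasedFunctor.comp ((Stk.resSieve R (FibCat.fp y j)).objPreimage H') (FibCat.fpSnd y j),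
      ⟨whiskerRightIso ((Stk.resSieve R (FibCat.fp y j)).objObjPreimageIso H') (FibCat.fpSnd y j)⟩⟩⟩
  exact Functor.IsEquivalence.mk

theorem exists_equivOver_subIncl (Q : 𝒳.obj → Prop)
    (hpull : ∀ ⦃η' η : 𝒳.obj⦄ (_ : η' ⟶ η), Q η → Q η') {U : Over S}
    (y : FibCat.overCat U ⥤ᵇ 𝒳) (V : U.left.Opens)
    (hV : ∀ g : Over U, Q (y.obj g) ↔ ∃ g' : g.left.left ⟶ ↑V, g' ≫ V.ι = g.hom.left) :
    ∃ E : FibCat.overCat (Over.mk (V.ι ≫ U.hom)) ⥤ᵇ FibCat.fp y (AlgSt.subIncl 𝒳 Q),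
      FibCat.IsEquivOver E ∧ Nonempty (BasedFunctor.comp E (FibCat.fpFst y (AlgSt.subIncl 𝒳 Q)) ≅
        AlgSt.overMap (Over.homMk V.ι rfl : Over.mk (V.ι ≫ U.hom) ⟶ U)) := by
  let V' : Over S := Over.mk (V.ι ≫ U.hom)
  let ι : V' ⟶ U := Over.homMk V.ι rfl
  have : Mono ι := by
    have : Mono ((Over.forget S).map ι) := inferInstanceAs (Mono V.ι)
    exact (Over.forget S).mono_of_mono_map this
  have hQ : ∀ g : (FibCat.overCat V').obj, Q (y.obj ((AlgSt.overMap ι).obj g)) := fun g =>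
    (hV _).2 ⟨g.hom.left, rfl⟩
  let b : FibCat.overCat V' ⥤ᵇ AlgSt.fullSub 𝒳 Q :=
    { toFunctor := ObjectProperty.lift Q ((AlgSt.overMap ι).toFunctor ⋙ y.toFunctor) hQ
      w := (BasedFunctor.comp (AlgSt.overMap ι) y).w }
  let E : FibCat.overCat V' ⥤ᵇ FibCat.fp y (AlgSt.subIncl 𝒳 Q) :=
    FibCat.fpLift (AlgSt.overMap ι) b
      (Iso.refl (BasedFunctor.comp (AlgSt.overMap ι) y))
  have hfull : E.toFunctor.Full := by
    refine ⟨fun {g g'} m => ?_⟩
    let a : (Over.map ι).obj g ⟶ (Over.map ι).obj g' := m.hom.fst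
    have hw : a.left ≫ g'.hom = g.hom := by
      rw [← cancel_mono ι, Category.assoc]
      exact Over.w a
    refine ⟨Over.homMk a.left hw, fp_hom_ext (Over.OverMorphism.ext rfl) ?_⟩
    have e₁ : (Over.map ι).map (Over.homMk a.left hw : g ⟶ g') = a := Over.OverMorphism.ext rfl
    have hm : y.map m.hom.fst ≫ 𝟙 (y.obj ((Over.map ι).obj g')) =
        𝟙 (y.obj ((Over.map ι).obj g)) ≫ (AlgSt.subIncl 𝒳 Q).map m.hom.snd := m.hom.w
    refine ObjectProperty.hom_ext _ ?_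
    refine Eq.trans ?_ (((Category.comp_id _).symm.trans hm).trans (Category.id_comp _))
    show y.map ((Over.map ι).map (Over.homMk a.left hw : g ⟶ g')) = y.map a
    rw [e₁]
  have hfaith : E.toFunctor.Faithful := by
    refine ⟨fun {g g'} f f' h => ?_⟩
    have := congrArg (fun k => k.hom.fst.left) h
    exact Over.OverMorphism.ext this
  have hE : FibCat.IsEquivOver E := by
    refine isEquivOver_of_fullyFaithful E hfull hfaith fun z => ?_
    let g : Over U := z.obj.fst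
    let η := z.obj.snd
    have hQg : Q (y.obj g) := hpull z.obj.iso.hom η.property
    obtain ⟨k, hk⟩ := (hV g).1 hQg
    let k' : g.left ⟶ V' := Over.homMk k (by
      show k ≫ V.ι ≫ U.hom = g.left.hom
      rw [← Category.assoc, hk]
      exact Over.w g.hom)
    have hk' : k' ≫ ι = g.hom := Over.OverMorphism.ext hk
    let i : (Over.map ι).obj (Over.mk k') ≅ g := Over.isoMk (Iso.refl _) (by simp [hk'])
    let j : y.obj ((Over.map ι).obj (Over.mk k')) ≅ η.obj := y.toFunctor.mapIso i ≪≫ z.obj.iso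
    refine ⟨Over.mk k', fpObjIso i ((ObjectProperty.fullyFaithfulι Q).preimageIso j) ?_, ?_⟩
    · show y.map i.hom ≫ z.obj.iso.hom = 𝟙 _ ≫ j.hom
      simp [j]
    · refine (isVert_fp_iff _).2 ⟨rfl, ?_⟩
      show 𝟙 g.left = eqToHom rfl
      simp
  exact ⟨E, hE, ⟨Iso.refl _⟩⟩

/-- A property of the inclusions of the loci gives one of the inclusion of the substack. -/
theorem repWith_subIncl {P : MorphismProperty (AlgSp.Sp S)} [P.RespectsIso] (Q : 𝒳.obj → Prop)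
    (hpull : ∀ ⦃η' η : 𝒳.obj⦄ (_ : η' ⟶ η), Q η → Q η')
    (hopen : ∀ (U : Over S) (y : FibCat.overCat U ⥤ᵇ 𝒳), ∃ V : U.left.Opens,
      (∀ g : Over U, Q (y.obj g) ↔ ∃ g' : g.left.left ⟶ ↑V, g' ≫ V.ι = g.hom.left) ∧
        P ((AlgSp.yon S).map (Over.homMk V.ι rfl : Over.mk (V.ι ≫ U.hom) ⟶ U))) :
    AlgSt.RepByAlgSpWith P (AlgSt.subIncl 𝒳 Q) := by
  intro U y
  obtain ⟨V, hV, hP⟩ := hopen U y
  obtain ⟨E, hE, ⟨i⟩⟩ := exists_equivOver_subIncl Q hpull y V hV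
  let ι : Over.mk (V.ι ≫ U.hom) ⟶ U := Over.homMk V.ι rfl
  have hι : RepFst P (AlgSt.overMap ι) := by
    refine ⟨(AlgSp.ofScheme S).obj _, AlgSt.toOverCat _, isEquivOver_toOverCat _, ?_⟩
    have h := hP
    rw [← spMapOfOver_toOverCat ι] at h
    exact h
  exact RepFst.of_equiv hE i hι

theorem isOpenImm_subIncl (Q : 𝒳.obj → Prop)
    (hpull : ∀ ⦃η' η : 𝒳.obj⦄ (_ : η' ⟶ η), Q η → Q η')
    (hopen : ∀ (U : Over S) (y : FibCat.overCat U ⥤ᵇ 𝒳), ∃ V : U.left.Opens,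
      ∀ g : Over U, Q (y.obj g) ↔ ∃ g' : g.left.left ⟶ ↑V, g' ≫ V.ι = g.hom.left) :
    AlgSt.IsOpenImm (AlgSt.subIncl 𝒳 Q) :=
  repWith_subIncl Q hpull fun U y => by
    obtain ⟨V, hV⟩ := hopen U y
    exact ⟨V, hV, (AlgSp.repWith_yon_map_iff (@IsOpenImmersion) _).2
      (inferInstanceAs (IsOpenImmersion V.ι))⟩

theorem isFibGrpd_fullSub (hX : FibCat.IsFibGrpd 𝒳.p) (Q : 𝒳.obj → Prop)
    (hpull : ∀ ⦃η' η : 𝒳.obj⦄ (_ : η' ⟶ η), Q η → Q η') :
    FibCat.IsFibGrpd (AlgSt.fullSub 𝒳 Q).p := by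
  have : (AlgSt.subIncl 𝒳 Q).toFunctor.Full := inferInstanceAs (ObjectProperty.ι Q).Full
  have : (AlgSt.subIncl 𝒳 Q).toFunctor.Faithful := inferInstanceAs (ObjectProperty.ι Q).Faithful
  exact isFibGrpd_of_fullyFaithful hX (AlgSt.subIncl 𝒳 Q) fun η' x l =>
    ⟨⟨η', hpull l x.property⟩, Iso.refl _, isVert_id _⟩


theorem repByAlgSp1_diag_fullSub (Q : 𝒳.obj → Prop)
    (hpull : ∀ ⦃η' η : 𝒳.obj⦄ (_ : η' ⟶ η), Q η → Q η')
    (h : AlgSt.RepByAlgSp1 (FibCat.diag (FibCat.toSelf 𝒳))) :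
    AlgSt.RepByAlgSp1 (FibCat.diag (FibCat.toSelf (AlgSt.fullSub 𝒳 Q))) := by
  intro W z
  let i := AlgSt.subIncl 𝒳 Q
  let ΔY := FibCat.diag (FibCat.toSelf (AlgSt.fullSub 𝒳 Q))
  let ΔX := FibCat.diag (FibCat.toSelf 𝒳)
  let c := prodMapF i i
  let z' := BasedFunctor.comp z c
  let β : BasedFunctor.comp ΔY c ≅ BasedFunctor.comp i ΔX :=
    fpIsoMk (Iso.refl _) (Iso.refl _) fun _ => self_ext
      ((isVert_map (isVert_id _)).comp (fp_isVert _)) ((fp_isVert _).comp (isVert_map (isVert_id _)))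
  let E : FibCat.fp z ΔY ⥤ᵇ FibCat.fp z' ΔX :=
    FibCat.fpLift (FibCat.fpFst z ΔY) (BasedFunctor.comp (FibCat.fpSnd z ΔY) i)
      ((whiskerRightIso (FibCat.fpIso z ΔY) c).trans (whiskerLeftIso (FibCat.fpSnd z ΔY) β))
  have hfst : ∀ q, (E.obj q).obj.iso.hom.hom.fst = q.obj.iso.hom.hom.fst.hom := fun q => by
    exact Category.comp_id _
  have hsnd : ∀ q, (E.obj q).obj.iso.hom.hom.snd = q.obj.iso.hom.hom.snd.hom := fun q => by
    exact Category.comp_id _
  have hE : FibCat.IsEquivOver E := by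
    refine isEquivOver_of_fullyFaithful E ⟨fun {p q} m => ?_⟩ ⟨fun {p q} f f' e => ?_⟩ (fun p => ?_)
    · have w := m.hom.w
      refine ⟨fpHom m.hom.fst (ObjectProperty.homMk m.hom.snd) (fp_hom_ext ?_ ?_), rfl⟩
      · apply ObjectProperty.hom_ext
        have w1 : (z.map m.hom.fst).hom.fst.hom ≫ (E.obj q).obj.iso.hom.hom.fst
            = (E.obj p).obj.iso.hom.hom.fst ≫ m.hom.snd := congrArg (fun t => t.hom.fst) w
        rw [hfst, hfst] at w1
        exact w1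
      · apply ObjectProperty.hom_ext
        have w1 : (z.map m.hom.fst).hom.snd.hom ≫ (E.obj q).obj.iso.hom.hom.snd
            = (E.obj p).obj.iso.hom.hom.snd ≫ m.hom.snd := congrArg (fun t => t.hom.snd) w
        rw [hsnd, hsnd] at w1
        exact w1
    · exact fp_hom_ext (congrArg (fun t => t.hom.fst) e)
        (ObjectProperty.hom_ext _ (congrArg (fun t => t.hom.snd) e))
    · have hx : Q p.obj.snd := hpull p.obj.iso.inv.hom.fst (z.obj p.obj.fst).obj.fst.property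
      let P : ObjectProperty 𝒳.obj := Q
      let a : (AlgSt.fullSub 𝒳 Q).obj := ⟨p.obj.snd, hx⟩
      let e₁ : (z.obj p.obj.fst).obj.fst ≅ a := P.fullyFaithfulι.preimageIso
        ((FibCat.fpFst _ _).toFunctor.mapIso p.obj.iso)
      let e₂ : (z.obj p.obj.fst).obj.snd ≅ a := P.fullyFaithfulι.preimageIso
        ((FibCat.fpSnd _ _).toFunctor.mapIso p.obj.iso)
      have hv : IsVert (AlgSt.fullSub 𝒳 Q).p e₁.hom := isVert_map (F := FibCat.fpFst _ _) (fp_isVert p)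
      let e : z.obj p.obj.fst ≅ ΔY.obj a := fpObjIso e₁ e₂ (self_ext
        ((isVert_map hv).comp (fp_isVert _))
        ((fp_isVert _).comp (isVert_map (isVert_map (F := FibCat.fpSnd _ _) (fp_isVert p)))))
      refine ⟨fpMk p.obj.fst a e ((isVert_fp_iff _).2 hv), fpObjIso (Iso.refl _) (Iso.refl _) ?_, ?_⟩
      · let q := fpMk p.obj.fst a e ((isVert_fp_iff _).2 hv)
        apply fp_hom_ext
        · show (z'.map (𝟙 p.obj.fst)).hom.fst ≫ p.obj.iso.hom.hom.fst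
            = (E.obj q).obj.iso.hom.hom.fst ≫ 𝟙 p.obj.snd
          rw [hfst, z'.toFunctor.map_id]
          simp [q, fpMk, e, fpObjIso, fpHom, e₁, P]
          exact (Category.comp_id _).symm
        · show (z'.map (𝟙 p.obj.fst)).hom.snd ≫ p.obj.iso.hom.hom.snd
            = (E.obj q).obj.iso.hom.hom.snd ≫ 𝟙 p.obj.snd
          rw [hsnd, z'.toFunctor.map_id]
          simp [q, fpMk, e, fpObjIso, fpHom, e₂, P]
          exact (Category.comp_id _).symm
      · exact (isVert_fp_iff _).2 (isVert_id _)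
  obtain ⟨E', hE', -⟩ := isEquivOver_symm hE
  exact repByAlgSp_of_equiv hE' (h W z')

theorem hasAtlas_fullSub {P : MorphismProperty (AlgSp.Sp S)} (Q : 𝒳.obj → Prop)
    (hpull : ∀ ⦃η' η : 𝒳.obj⦄ (_ : η' ⟶ η), Q η → Q η')
    (hopen : ∀ (U : Over S) (y : FibCat.overCat U ⥤ᵇ 𝒳), ∃ V : U.left.Opens,
      ∀ g : Over U, Q (y.obj g) ↔ ∃ g' : g.left.left ⟶ ↑V, g' ≫ V.ι = g.hom.left)
    (h : AlgSt.HasAtlas P 𝒳) : AlgSt.HasAtlas P (AlgSt.fullSub 𝒳 Q) := by
  obtain ⟨U, x, hx, hxs⟩ := h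
  obtain ⟨V, hV⟩ := hopen U x
  obtain ⟨E, hE, -⟩ := exists_equivOver_subIncl Q hpull x V hV
  exact ⟨_, BasedFunctor.comp E (FibCat.fpSnd x (AlgSt.subIncl 𝒳 Q)),
    (repWith_precomp_equiv hE _).2 (repWith_fpSnd _ _ hx),
    (repWith_precomp_equiv hE _).2 (repWith_fpSnd _ _ hxs)⟩

/-- An open condition on objects which is stable under pullback cuts out an open substack. -/
theorem isOpenSubstack_of_open (hX : AlgSt.IsAlgStack Scheme.fppfPrecoverage 𝒳) (Q : 𝒳.obj → Prop)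
    (hpull : ∀ ⦃η' η : 𝒳.obj⦄ (_ : η' ⟶ η), Q η → Q η')
    (hopen : ∀ (U : Over S) (y : FibCat.overCat U ⥤ᵇ 𝒳), ∃ V : U.left.Opens,
      ∀ g : Over U, Q (y.obj g) ↔ ∃ g' : g.left.left ⟶ ↑V, g' ≫ V.ι = g.hom.left) :
    AlgSt.IsOpenSubstack 𝒳 Q Scheme.fppfPrecoverage := by
  have hi := isOpenImm_subIncl Q hpull hopen
  have hg := isFibGrpd_fullSub hX.isStack.1 Q hpull
  exact ⟨⟨fun e h => hpull e.inv h⟩,
    ⟨isStack_of_repByAlgSp1_gen hg hX.isStack (AlgSt.subIncl 𝒳 Q) (repWith_repByAlgSp1 hi),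
      repByAlgSp1_diag_fullSub Q hpull hX.diag, hasAtlas_fullSub Q hpull hopen hX.atlas⟩, hi⟩

/-- A condition on objects given by open loci in their bases, compatible with morphisms, cuts out an open
substack. -/
theorem isOpenSubstack_of_loci (hX : AlgSt.IsAlgStack Scheme.fppfPrecoverage 𝒳) (Q : 𝒳.obj → Prop)
    (h : ∀ A : 𝒳.obj, ∃ O : (𝒳.p.obj A).left.Opens, ∀ (B : 𝒳.obj) (φ : B ⟶ A),
      Q B ↔ Set.range (𝒳.p.map φ).left.base ⊆ (O : Set (𝒳.p.obj A).left)) :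
    AlgSt.IsOpenSubstack 𝒳 Q Scheme.fppfPrecoverage := by
  refine isOpenSubstack_of_open hX Q (fun B A φ hA => ?_) (fun U y => ?_)
  · obtain ⟨O, hO⟩ := h A
    have hu := (hO A (𝟙 A)).1 hA
    rw [CategoryTheory.Functor.map_id] at hu
    exact (hO B φ).2 ((Set.subset_univ _).trans ((Set.range_id (α := (𝒳.p.obj A).left)).symm.subset.trans hu))
  · let A := y.obj (Over.mk (𝟙 U))
    obtain ⟨O, hO⟩ := h A
    let eA : U ⟶ 𝒳.p.obj A := eqToHom (y.w_obj (Over.mk (𝟙 U))).symm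
    refine ⟨eA.left ⁻¹ᵁ O, fun g => ?_⟩
    let m : g ⟶ Over.mk (𝟙 U) := Over.homMk g.hom
    rw [hO _ (y.map m)]
    have hm : (𝒳.p.map (y.map m)).left = (eqToHom (y.w_obj g)).left ≫ g.hom.left ≫ eA.left := by
      rw [map_map y m]
      rfl
    rw [hm]
    constructor
    · intro hr
      refine ⟨IsOpenImmersion.lift (eA.left ⁻¹ᵁ O).ι g.hom.left ?_, IsOpenImmersion.lift_fac _ _ _⟩
      rw [Scheme.Opens.range_ι]
      rintro _ ⟨a, rfl⟩
      have : (eqToHom (y.w_obj g).symm).left ≫ (eqToHom (y.w_obj g)).left = 𝟙 _ := by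
        rw [← Over.comp_left, eqToHom_trans, eqToHom_refl]; rfl
      refine hr ⟨(eqToHom (y.w_obj g).symm).left a, ?_⟩
      rw [← Scheme.Hom.comp_apply, reassoc_of% this]
      rfl
    · rintro ⟨g', hg'⟩ _ ⟨a, rfl⟩
      rw [← hg']
      exact (g' ((eqToHom (y.w_obj g)).left a)).2

end Groth.CurvStOpen
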