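import Groth.Agent.CurvStOpen.OpenCrit
import Groth.Agent.AlgSp3.HasAtMor
import Groth.Agent.AlgSpBasic.LocPInst
import Groth.Prelude.Def_StCurv2

/-!
# Open substacks of the stack of curves cut out by pointwise conditions on the structure morphism

A condition on pointed morphisms of schemes which is etale local at source and target, open on flat morphisms
of finite presentation and stable under base change cuts out an open substack of the stack of curves.
-/

set_option autoImplicit false
set_option backward.isDefEq.respectTransparency false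
set_option backward.isDefEq.respectTransparency.types false

universe u

open CategoryTheory CategoryTheory.Limits AlgebraicGeometry AlgSp Groth.AlgSpBasic Groth.AlgSp3

noncomputable section

namespace Groth.CurvStOpen

variable {S : Scheme.{u}} {n : ℕ}

theorem isClosedMap_map_of_isProperMor {X Y : Sp S} (hY : IsAlgSpace Y) {f : X ⟶ Y} (hf : IsProperMor f) :
    IsClosedMap (Points.map f) :=
  hf.2.2 hY (𝟙 Y) (𝟙 X) f (IsPullback.of_horiz_isIso ⟨by simp⟩)

variable {P : ∀ U V : Scheme.{u}, (U ⟶ V) → ↥U → Prop}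

/-- `LocP` of a pointwise condition is the condition at every point. -/
theorem forall_hasAtMor_iff_locP (hinv : EtMorInvariant P) {X Y : Sp S} (hX : IsAlgSpace X) (hY : IsAlgSpace Y)
    (f : X ⟶ Y) :
    (∀ x, HasAtMor P f x) ↔ LocP (fun U V g => ∀ u, P U V g u) f :=
  ⟨fun H U V a b h ha hb comm u =>
      (hasAtMor_iff_of_chart hinv id hX.diag hY.diag ha hb comm u).1 (H _),
    fun H x => (hasAtMor_iff_forall hinv id hX hY f x).2 fun U V a b h u ha hb comm _ => H a b h ha hb comm u⟩

theorem isCurveFam_flat_lfp {A : CurvSt.SpFamObj S n} (hA : CurvSt.IsCurveFam A) {U V : Over S}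
    {a : (yon S).obj U ⟶ A.X} {b : (yon S).obj V ⟶ (yon S).obj A.base} {h : U ⟶ V}
    (ha : RepWith @Etale a) (hb : RepWith @Etale b) (comm : a ≫ A.f = (yon S).map h ≫ b) :
    Flat h.left ∧ LocallyOfFinitePresentation h.left :=
  ⟨hA.2.1 a b h ha hb comm, hA.2.2.2.1.1 a b h ha hb comm⟩

section

variable (hinv : EtMorInvariant P)
  (hopen : ∀ {U V : Scheme.{u}} (h : U ⟶ V) [Flat h] [LocallyOfFinitePresentation h], IsOpen {u | P U V h u})
  (hbc : ∀ {U V U' V' : Scheme.{u}} (h : U ⟶ V) [Flat h] [LocallyOfFinitePresentation h] (g : V' ⟶ V)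
    (h' : U' ⟶ V') (g' : U' ⟶ U), IsPullback g' h' h g → ∀ u', P U' V' h' u' ↔ P U V h (g' u'))

include hinv hopen in
theorem isOpen_hasAtMor {A : CurvSt.SpFamObj S n} (hA : CurvSt.IsCurveFam A) :
    IsOpen {x | HasAtMor P A.f x} := by
  obtain ⟨U, V, a, b, h, ha, has, hb, -, comm⟩ := exists_charts hA.1 (IsAlgSpace.yon_obj A.base) A.f
  obtain ⟨_, _⟩ := isCurveFam_flat_lfp hA ha hb comm
  have key := fun u => hasAtMor_iff_of_chart hinv id hA.1.diag (IsAlgSpace.yon_obj A.base).diag ha hb comm u
  have e : {x | HasAtMor P A.f x} = Points.ofPt a '' {u | P U.left V.left h.left u} := by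
    ext x
    refine ⟨fun hx => ?_, ?_⟩
    · obtain ⟨u, rfl⟩ := surjective_ofPt_of_repWith has x
      exact ⟨u, (key u).1 hx, rfl⟩
    · rintro ⟨u, hu, rfl⟩
      exact (key u).2 hu
  rw [e]
  exact isOpenMap_ofPt_of_etale ha _ (hopen h.left)

include hinv hbc in
theorem hasAtMor_baseChange {A B : CurvSt.SpFamObj S n} (hA : CurvSt.IsCurveFam A) (φ : B ⟶ A)
    (x' : Points B.X) : HasAtMor P B.f x' ↔ HasAtMor P A.f (Points.map φ.top x') := by
  obtain ⟨U, V, V', U', a, b, b', a', h, k, p, h', u', ha, hb, hb', ha', comm, -, comm', -, hp, hx', hx⟩ :=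
    exists_chart_baseChange hA.1 (IsAlgSpace.yon_obj A.base) (IsAlgSpace.yon_obj B.base) φ.cart x'
  obtain ⟨_, _⟩ := isCurveFam_flat_lfp hA ha hb comm
  have hB : Representable (Limits.diag B.X) :=
    (Groth.AlgSpBasic.isAlgSpace_of_isPullback φ.cart (IsAlgSpace.yon_obj A.base).diag hA.1
      (IsAlgSpace.yon_obj B.base)).diag
  rw [← hx, ← hx']
  exact (hasAtMor_iff_of_chart hinv id hB (IsAlgSpace.yon_obj B.base).diag ha' hb' comm' u').trans
    ((hbc h.left k.left h'.left p.left hp u').trans
      (hasAtMor_iff_of_chart hinv id hA.1.diag (IsAlgSpace.yon_obj A.base).diag ha hb comm _).symm)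

include hinv hopen hbc in
/-- The locus in the base over which a pointwise condition holds at every point. -/
theorem exists_locus {A : CurvSt.SpFamObj S n} (hA : CurvSt.IsCurveFam A) :
    ∃ O : A.base.left.Opens, ∀ (B : CurvSt.SpFamObj S n) (φ : B ⟶ A),
      (∀ x, HasAtMor P B.f x) ↔ Set.range φ.base.left ⊆ (O : Set A.base.left) := by
  let e := Points.schemeHomeo A.base
  have hcl : IsClosed (e ⁻¹' (Points.map A.f '' {x | ¬ HasAtMor P A.f x})) :=
    ((isClosedMap_map_of_isProperMor (IsAlgSpace.yon_obj A.base) hA.2.2.1) _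
      (isOpen_hasAtMor hinv hopen hA).isClosed_compl).preimage e.continuous
  refine ⟨⟨_, hcl.isOpen_compl⟩, fun B φ => ⟨fun H => ?_, fun H x' => ?_⟩⟩
  · rintro _ ⟨t', rfl⟩ ⟨x, hx, hxt⟩
    obtain ⟨x', hx', -⟩ := exists_point_of_isPullback φ.cart x (Points.schemeHomeo B.base t')
      (hxt.trans (Points.map_yon_map_apply φ.base t').symm)
    exact hx (hx' ▸ (hasAtMor_baseChange hinv hbc hA φ x').1 (H x'))
  · rw [hasAtMor_baseChange hinv hbc hA φ x']
    by_contra hbad
    refine H ⟨(Points.schemeHomeo B.base).symm (Points.map B.f x'), rfl⟩ ⟨_, hbad, ?_⟩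
    show _ = Points.schemeHomeo A.base _
    rw [← Points.map_yon_map_apply, Homeomorph.apply_symm_apply, ← Points.map_comp, φ.cart.w, Points.map_comp]

include hinv hopen hbc in
/-- The families satisfying a pointwise condition form an open substack of the stack of curves. -/
theorem isOpenSubstack_pointwise (hC : AlgSt.IsAlgStack Scheme.fppfPrecoverage (CurvSt.Curves S n))
    (Q : (CurvSt.Curves S n).obj → Prop) (hQ : ∀ A, Q A ↔ ∀ x, HasAtMor P A.obj.f x) :
    AlgSt.IsOpenSubstack (CurvSt.Curves S n) Q Scheme.fppfPrecoverage := by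
  refine isOpenSubstack_of_loci hC Q fun A => ?_
  obtain ⟨O, hO⟩ := exists_locus hinv hopen hbc A.property
  exact ⟨O, fun B φ => (hQ B).trans (hO B.obj φ.hom)⟩

end

end Groth.CurvStOpen
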