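import Groth.Agent.CurvStOpen.GeomLocus
import Groth.Agent.CurvStOpen.Witness
import Groth.Agent.CurvStField.Fibre
import Groth.Agent.AlgSp2.GeomRedLocusOpen
import Groth.Agent.VarietyBC.Reduced
import Groth.Agent.VarietyBC.TensorGeom

/-!
# The open substack of curves with reduced geometric fibres
-/

set_option autoImplicit false
set_option backward.isDefEq.respectTransparency false
set_option backward.isDefEq.respectTransparency.types false

universe u

open CategoryTheory CategoryTheory.Limits AlgebraicGeometry AlgSp Groth.AlgSpBasic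

noncomputable section

namespace Groth.CurvStOpen

variable {S : Scheme.{u}} {n : ℕ}

/-- Reduced schemes. -/
def redClass (n : ℕ) : FibClass.{u} n := fun _ _ _ X' _ _ => IsReduced X'

theorem geometricallyReduced_of_perfect {k : Type u} [Field k] [PerfectField k] {X : Scheme.{u}}
    (p : X ⟶ Spec (CommRingCat.of k)) [IsReduced X] : GeometricallyReduced p := by
  letI : X.Over (Spec (CommRingCat.of k)) := ⟨p⟩
  refine (Groth.VarietyBC.geometricallyReduced_iff_forall (k := k) (X := X)).2 fun x => ?_
  rw [Groth.VarietyBC.isGeomReducedAt_iff]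
  letI := Curv2.stalkAlgebra k X x
  exact Groth.VarietyBC.isGeometricallyReduced_of_perfectField _

theorem isReduced_of_flat_surjective {X Y : Scheme.{u}} (j : X ⟶ Y) [Flat j] [Surjective j] [IsReduced X] :
    IsReduced Y := by
  have : ∀ z, _root_.IsReduced (Y.presheaf.stalk z) := fun z => by
    obtain ⟨x, hx⟩ := j.surjective z
    exact Groth.VarietyBC.isReduced_stalk_of_flat j x hx
  exact isReduced_of_isReduced_stalk Y

theorem extInvariant_redClass : ExtInvariant.{u} (redClass n) := by
  intro Ω Ω' _ _ _ _ ι X q σ X' q' j σ' _ sq _ _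
  constructor
  · intro h
    have : IsReduced X := h
    exact (geometricallyReduced_of_perfect q).1 ι j q' sq
  · intro h
    have : IsReduced X' := h
    have : Flat ι := Groth.CurvStField.flat_of_field ι
    have : Surjective ι := Groth.CurvStField.surjective_of_field ι
    have : Flat j := MorphismProperty.of_isPullback sq.flip inferInstance
    have : Surjective j := MorphismProperty.of_isPullback sq.flip inferInstance
    exact isReduced_of_flat_surjective j

/-- The scheme fibre is reduced when it is reduced etale locally as a space. -/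
theorem isReduced_of_etaleLocally {X' : Over S} (h : EtaleLocally (fun U => IsReduced U) ((yon S).obj X')) :
    IsReduced X'.left :=
  Groth.AlgSp3.isReduced_etale_chart (IsAlgSpace.yon_obj X') h (a := 𝟙 _) (repWith_id _ X')

theorem etaleLocally_of_isReduced {P : Sp S} {X' : Over S} (e : (yon S).obj X' ≅ P) (h : IsReduced X'.left) :
    EtaleLocally (fun U => IsReduced U) P := by
  refine ⟨X', e.hom, ?_, ?_, h⟩
  · exact repWith_of_isPullback (IsPullback.of_vert_isIso (fst := 𝟙 _) (snd := e.hom) (f := 𝟙 _) (g := e.inv)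
      ⟨by simp⟩) (repWith_id _ _)
  · exact repWith_of_isPullback (IsPullback.of_vert_isIso (fst := 𝟙 _) (snd := e.hom) (f := 𝟙 _) (g := e.inv)
      ⟨by simp⟩) (repWith_id _ _)

theorem isOpen_goodSet_redClass (A : CurvSt.SpFamObj S n) (hA : CurvSt.IsCurveFam A) :
    IsOpen (goodSet (redClass n) A) := by
  let X₀ : AlgSp.Space S := ⟨A.X, hA.1⟩
  let Y₀ : AlgSp.Space S := ⟨(yon S).obj A.base, IsAlgSpace.yon_obj A.base⟩
  let f₀ : X₀ ⟶ Y₀ := ObjectProperty.homMk A.f
  have hG := Groth.AlgSp2.GeomRedLocus.isOpen_geomReducedFibre f₀ hA.2.1 hA.2.2.1.2.2 hA.2.2.2.1.1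
  have hpre := hG.preimage (Points.schemeHomeo A.base).continuous
  convert hpre using 1
  ext t
  constructor
  · intro ht p hp K _ φ Xk' a b sq
    let w : Spec (CommRingCat.of K) ⟶ A.base.left :=
      Spec.map (CommRingCat.ofHom φ) ≫ (p.val.down.left : Spec (CommRingCat.of p.K) ⟶ A.base.left)
    have hw : w (IsLocalRing.closedPoint K) = t := by
      have h0 := congrArg (Points.toScheme A.base) hp
      rw [Points.toScheme_mk] at h0
      refine Eq.trans ?_ (h0.trans (Points.toScheme_ofScheme A.base t))
      show (p.val.down.left : Spec (CommRingCat.of p.K) ⟶ A.base.left) ((Spec.map (CommRingCat.ofHom φ)) _) = _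
      exact congrArg _ (Subsingleton.elim (α := PrimeSpectrum p.K) _ _)
    let e : Over.mk (Spec.map (CommRingCat.ofHom φ) ≫ p.str) ≅ A.ptOver w := Over.isoMk (Iso.refl _) (by
      show 𝟙 _ ≫ (Spec.map (CommRingCat.ofHom φ) ≫ _) ≫ A.base.hom = Spec.map (CommRingCat.ofHom φ) ≫ p.str
      rw [Category.id_comp, Category.assoc]
      exact congrArg (_ ≫ ·) (Over.w p.val.down))
    have hmap : (yon S).map e.inv ≫ ((yon S).map (Over.homMk (Spec.map (CommRingCat.ofHom φ)) rfl :
        Over.mk (Spec.map (CommRingCat.ofHom φ) ≫ p.str) ⟶ p.pt) ≫ p.toHom) = (yon S).map (A.ptHom w) := by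
      have hto : p.toHom = (yon S).map p.val.down := by
        apply (J S).uliftYonedaEquiv.injective
        rw [FieldPt.uliftYonedaEquiv_toHom]
        rfl
      rw [hto, ← Functor.map_comp, ← Functor.map_comp]
      exact congrArg _ (Over.OverMorphism.ext (Category.id_comp _))
    have sq' : IsPullback a (b ≫ (yon S).map e.hom) A.f ((yon S).map (A.ptHom w)) := by
      refine sq.of_iso (Iso.refl _) (Iso.refl _) ((yon S).mapIso e) (Iso.refl _) (by simp) (by simp) (by simp [f₀]) ?_
      simp only [Functor.mapIso_hom, Iso.refl_hom, Category.comp_id]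
      rw [← hmap, ← Functor.map_comp_assoc, Iso.hom_inv_id, CategoryTheory.Functor.map_id, Category.id_comp]
    obtain ⟨X₁, q₁, i₁, h₁, -, -⟩ := Groth.CurvStField.exists_fibre_scheme A hA w
    refine etaleLocally_of_isReduced (h₁.isoIsPullback _ _ sq') ?_
    -- reducedness may be checked after extending to the algebraic closure
    let ι : Spec (CommRingCat.of (AlgebraicClosure K)) ⟶ Spec (CommRingCat.of K) :=
      Spec.map (CommRingCat.ofHom (algebraMap K (AlgebraicClosure K)))
    obtain ⟨X₂, q₂, j, i₂, h₂, σ, σ₂, sqj, -⟩ := exists_square_ext A ι h₁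
    have : IsReduced X₂ := ht (AlgebraicClosure K) (ι ≫ w) (by
      show w (ι _) = t
      rw [← hw]; exact congrArg _ (Subsingleton.elim (α := PrimeSpectrum K) _ _)) X₂ q₂ i₂ h₂
    have : Flat ι := Groth.CurvStField.flat_of_field ι
    have : Surjective ι := Groth.CurvStField.surjective_of_field ι
    have : Flat j := MorphismProperty.of_isPullback sqj.flip inferInstance
    have : Surjective j := MorphismProperty.of_isPullback sqj.flip inferInstance
    exact isReduced_of_flat_surjective j
  · intro h Ω _ _ t' ht' X' q i hP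
    let p : FieldPt ((yon S).obj A.base) := ⟨Ω, t' ≫ A.base.hom, ULift.up (Over.homMk t' rfl)⟩
    have hp : Points.mk p = Points.schemeHomeo A.base t := by
      rw [← ht']
      exact (Points.ofScheme_apply_eq_mk A.base t' rfl).symm
    let j : Over.mk (Spec.map (CommRingCat.ofHom (RingHom.id Ω)) ≫ p.str) ≅ A.ptOver t' :=
      Over.isoMk (Iso.refl _) (by simp [p])
    have hto : p.toHom = (yon S).map (A.ptHom t') := by
      apply (J S).uliftYonedaEquiv.injective
      rw [FieldPt.uliftYonedaEquiv_toHom]
      rfl
    have hmap : (yon S).map j.inv ≫ ((yon S).map (Over.homMk (Spec.map (CommRingCat.ofHom (RingHom.id Ω))) rfl :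
        Over.mk (Spec.map (CommRingCat.ofHom (RingHom.id Ω)) ≫ p.str) ⟶ p.pt) ≫ p.toHom) =
        (yon S).map (A.ptHom t') := by
      rw [hto, ← Functor.map_comp, ← Functor.map_comp]
      exact congrArg _ (Over.OverMorphism.ext (by
        have e : CommRingCat.ofHom (RingHom.id Ω) = 𝟙 _ := rfl
        simp [j, e]
        rw [Spec.map_id]; exact Category.id_comp _))
    have sq : IsPullback i ((yon S).map (A.fibHom t' q) ≫ (yon S).map j.inv) A.f
        ((yon S).map (Over.homMk (Spec.map (CommRingCat.ofHom (RingHom.id Ω))) rfl :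
          Over.mk (Spec.map (CommRingCat.ofHom (RingHom.id Ω)) ≫ p.str) ⟶ p.pt) ≫ p.toHom) := by
      refine hP.of_iso (Iso.refl _) (Iso.refl _) ((yon S).mapIso j.symm) (Iso.refl _) (by simp) (by simp) (by simp) ?_
      simp only [Functor.mapIso_hom, Iso.symm_hom, Iso.refl_hom, Category.comp_id]
      exact hmap.symm
    exact isReduced_of_etaleLocally (h p hp Ω (RingHom.id Ω) _ i _ sq)

end Groth.CurvStOpen
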