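import Groth.Agent.CurvStOpen.IsolBad
import Groth.Agent.CurvStOpen.PtLocus
import Groth.Agent.CurvStOpen.GeomLocus
import Groth.Agent.CurvStField.Fibre
import Groth.Agent.AlgSpBasic.QComp
import Groth.Agent.SpectralTopology.Dim

/-!
# The open substack of curves whose geometric fibres are smooth outside finitely many points
-/

set_option autoImplicit false
set_option backward.isDefEq.respectTransparency false
set_option backward.isDefEq.respectTransparency.types false

universe u

open CategoryTheory CategoryTheory.Limits AlgebraicGeometry Topology TopologicalSpace AlgSp Groth.AlgSpBasic Groth.AlgSp3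

noncomputable section

namespace Groth.CurvStOpen

theorem finite_badSet_iff {K : Type u} [Field K] {X : Scheme.{u}} (q : X ⟶ Spec (CommRingCat.of K))
    [LocallyOfFiniteType q] [CompactSpace X] :
    (badSet q).Finite ↔ ∀ x, IsolBad X (Spec (CommRingCat.of K)) q x := by
  have : IsLocallyNoetherian X := LocallyOfFiniteType.isLocallyNoetherian q
  have : IsNoetherian X := {}
  have : JacobsonSpace X := LocallyOfFiniteType.jacobsonSpace q
  have hfib : ∀ x, badFibre q x = badSet q := fun x => by
    ext y
    exact ⟨And.left, fun hy => ⟨hy, Subsingleton.elim (α := PrimeSpectrum K) _ _⟩⟩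
  have : JacobsonSpace ↥(badSet q) := JacobsonSpace.of_isClosedEmbedding
    (isClosed_badSet q).isClosedEmbedding_subtypeVal
  have hiff : (∀ x, IsolBad X (Spec (CommRingCat.of K)) q x) ↔
      ∀ x : ↥(badSet q), FlatMor.localDim ↥(badSet q) x ≤ 0 := by
    have key : ∀ (u : X) (hu : u ∈ badSet q) (B : Set X) (hB : B = badSet q) (hu' : u ∈ B),
        FlatMor.localDim ↥B ⟨u, hu'⟩ = FlatMor.localDim ↥(badSet q) ⟨u, hu⟩ := by
      rintro u hu B rfl hu'; rfl
    exact ⟨fun H x => (key x.1 x.2 _ (hfib x.1) _) ▸ H x.1 x.2,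
      fun H u hu => (key u hu _ (hfib u) ⟨hu, rfl⟩).trans_le (H ⟨u, hu⟩)⟩
  rw [hiff]
  constructor
  · intro hf x
    have : Finite ↥(badSet q) := hf.to_subtype
    refine (Groth.SpectralTopology.localDim_le_dim _).trans ?_
    refine Order.krullDim_nonpos_iff_forall_isMin.2 fun Z Z' hle y hy => ?_
    obtain ⟨z, hz⟩ := Z'.isIrreducible.nonempty
    rwa [Z.isIrreducible.isPreirreducible.subsingleton hy (hle hz)]
  · intro H
    choose W hxW hW using fun x : ↥(badSet q) => Groth.SpectralTopology.exists_localDim_eq x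
    have : CompactSpace ↥(badSet q) := isCompact_iff_compactSpace.1 (isClosed_badSet q).isCompact
    obtain ⟨s, hs⟩ := isCompact_univ.elim_finite_subcover (fun x => (W x : Set ↥(badSet q)))
      (fun x => (W x).2) fun x _ => Set.mem_iUnion.2 ⟨x, hxW x⟩
    have hfin : ∀ x, (W x : Set ↥(badSet q)).Finite := fun x =>
      Set.finite_coe_iff.1 (Groth.SpectralTopology.finite_discrete_of_dim_nonpos ((hW x).trans_le (H x))).1
    exact Set.finite_coe_iff.1 (Set.finite_univ_iff.1
      ((Set.Finite.biUnion s.finite_toSet fun x _ => hfin x).subset hs))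

variable {S : Scheme.{u}} {n : ℕ}

/-- The scheme fibres of a family of curves are quasi-compact. -/
theorem compactSpace_fibre (A : CurvSt.SpFamObj S n) (hA : CurvSt.IsCurveFam A) {K : Type u} [Field K]
    {t : Spec (CommRingCat.of K) ⟶ A.base.left} {X' : Scheme.{u}} {q : X' ⟶ Spec (CommRingCat.of K)}
    {i : (yon S).obj (A.ptOver (q ≫ t)) ⟶ A.X}
    (hP : IsPullback i ((yon S).map (A.fibHom t q)) A.f ((yon S).map (A.ptHom t))) : CompactSpace X' :=
  (isQuasiCompactSp_yon_iff _).1 (hA.2.2.2.1.2.1 (IsAlgSpace.yon_obj _)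
    ((isQuasiCompactSp_yon_iff _).2 (inferInstanceAs (CompactSpace (PrimeSpectrum K)))) _ _ _ hP)

theorem geomFib_finite_iff (A : CurvSt.SpFamObj S n) (hA : CurvSt.IsCurveFam A) :
    CurvSt.GeomFib (fun _ _ _ X' q _ => Set.Finite {x : ↥X' | ¬ ∃ U : X'.Opens, x ∈ U ∧ Smooth (U.ι ≫ q)}) A ↔
      ∀ x, HasAtMor IsolBad A.f x := by
  obtain ⟨U, a, ha, has⟩ := hA.1.atlas
  obtain ⟨k, hk⟩ := (yon S).map_surjective (a ≫ A.f)
  have hk' : a ≫ A.f = (yon S).map k ≫ 𝟙 _ := by rw [hk, Category.comp_id]
  obtain ⟨_, _⟩ := isCurveFam_flat_lfp hA ha (repWith_id _ A.base) hk'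
  have hiff : (∀ x, HasAtMor IsolBad A.f x) ↔ ∀ u, IsolBad U.left A.base.left k.left u := by
    have key : ∀ u, HasAtMor IsolBad A.f (Points.ofPt a u) ↔ IsolBad U.left A.base.left k.left u := fun u =>
      hasAtMor_iff_of_chart etMor_isolBad id hA.1.diag (IsAlgSpace.yon_obj A.base).diag ha (repWith_id _ A.base) hk' u
    refine ⟨fun H u => (key u).1 (H _), fun H x => ?_⟩
    obtain ⟨u, rfl⟩ := surjective_ofPt_of_repWith has x
    exact (key u).2 (H u)
  rw [hiff]
  constructor
  · intro H u
    let Ω := AlgebraicClosure (A.base.left.residueField (k.left u))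
    let t : Spec (CommRingCat.of Ω) ⟶ A.base.left :=
      Spec.map (CommRingCat.ofHom (algebraMap (A.base.left.residueField (k.left u)) Ω)) ≫
        A.base.left.fromSpecResidueField (k.left u)
    obtain ⟨X', q, i, hP, -, -⟩ := Groth.CurvStField.exists_fibre_scheme A hA t
    obtain ⟨W, g', q', d, sqW, hdet, hd, hsurj⟩ := Groth.CurvStField.exists_fibre_chart A hP ha hk.symm
    have : Etale d := hdet
    have : Surjective d := hsurj has
    have : LocallyOfFiniteType q' := MorphismProperty.of_isPullback (P := @LocallyOfFiniteType) sqW inferInstance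
    have : LocallyOfFiniteType q := by
      have h' : LocallyOfFiniteType (d ≫ q) := by rw [hd]; infer_instance
      exact Groth.AlgSpBasic.SourceDescent.locallyOfFiniteType_of_comp_surjective d q
    have := compactSpace_fibre A hA hP
    have hfin := (finite_badSet_iff q).1 (H Ω t X' q i hP)
    obtain ⟨w, hw, -⟩ := Scheme.exists_preimage_of_isPullback sqW u (Classical.arbitrary _) (by
      show k.left u = (A.base.left.fromSpecResidueField (k.left u)) _
      exact (Scheme.fromSpecResidueField_apply _ _).symm)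
    rw [← hw, ← isolBad_baseChange k.left t q' g' sqW w, ← hd,
      etMor_isolBad.precomp d q w]
    exact hfin _
  · intro H Ω _ _ t X' q i hP
    obtain ⟨W, g', q', d, sqW, hdet, hd, hsurj⟩ := Groth.CurvStField.exists_fibre_chart A hP ha hk.symm
    have : Etale d := hdet
    have : Surjective d := hsurj has
    have : LocallyOfFiniteType q' := MorphismProperty.of_isPullback (P := @LocallyOfFiniteType) sqW inferInstance
    have : LocallyOfFiniteType q := by
      have h' : LocallyOfFiniteType (d ≫ q) := by rw [hd]; infer_instance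
      exact Groth.AlgSpBasic.SourceDescent.locallyOfFiniteType_of_comp_surjective d q
    have := compactSpace_fibre A hA hP
    refine (finite_badSet_iff q).2 fun x => ?_
    obtain ⟨w, rfl⟩ := d.surjective x
    rw [← etMor_isolBad.precomp d q w, hd, isolBad_baseChange k.left t q' g' sqW w]
    exact H _

theorem isOpenSubstack_smoothFinite (hC : AlgSt.IsAlgStack Scheme.fppfPrecoverage (CurvSt.Curves S n)) :
    AlgSt.IsOpenSubstack (CurvSt.Curves S n) (fun A => CurvSt.GeomFib (fun _ _ _ X' q _ =>
      Set.Finite {x : ↥X' | ¬ ∃ U : X'.Opens, x ∈ U ∧ Smooth (U.ι ≫ q)}) A.obj) Scheme.fppfPrecoverage :=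
  isOpenSubstack_pointwise etMor_isolBad (fun h _ _ => isOpen_isolBad h)
    (fun h _ _ g h' g' hc u' => isolBad_baseChange h g h' g' hc u') hC _
    fun A => geomFib_finite_iff A.obj A.property

end Groth.CurvStOpen
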